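import Groth.Agent.H1Near.Closure
import Groth.Agent.Triage.GeomCount
import Groth.Agent.MorLib.GeomPts
import Groth.Agent.QHomeo.OpenAt
import Mathlib

/-!
# Geometric points of quasi-finite morphisms
-/

universe u

open CategoryTheory CategoryTheory.Limits AlgebraicGeometry TopologicalSpace IsLocalRing

noncomputable section

namespace Groth.Agent.H1Near

variable {X Y : Scheme.{u}}

/-- Lifts of a point with values in a field. -/
abbrev GPts (f : X ⟶ Y) {K : Type u} [Field K] (g : Spec (CommRingCat.of K) ⟶ Y) :=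
  {a : Spec (CommRingCat.of K) ⟶ X // a ≫ f = g}

/-- The closed point, as a point of the spectrum. -/
abbrev spt (K : Type u) [CommRing K] [IsLocalRing K] : ↥(Spec (CommRingCat.of K)) := closedPoint K

theorem section_ext' {P : Scheme.{u}} {K : Type u} [Field K] (p : P ⟶ Spec (CommRingCat.of K))
    {a b : Spec (CommRingCat.of K) ⟶ P} (ha : a ≫ p = 𝟙 _) (hb : b ≫ p = 𝟙 _)
    (h : a (spt K) = b (spt K)) : a = b := by
  refine hom_ext_of_bijective_residueFieldMap p (x := a (spt K)) ⟨RingHom.injective _, ?_⟩ a b rfl h.symm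
    (ha.trans hb.symm)
  obtain ⟨φ, hφ⟩ := exists_desc a (rfl : a (spt K) = _)
  have hs : Function.Surjective (p.residueFieldMap (a (spt K)) ≫ φ).hom := by
    refine surjective_of_fac (RingHom.id K) (fun t => ⟨t, 1, by simp⟩) _ ?_
    rw [Spec.map_comp, Category.assoc, Scheme.Hom.SpecMap_residueFieldMap_fromSpecResidueField,
      ← Category.assoc, hφ, ha]
    exact (Spec.map_id _).symm
  intro t
  obtain ⟨c, hc⟩ := hs (φ.hom t)
  exact ⟨c, RingHom.injective φ.hom hc⟩

theorem exists_section_through {P : Scheme.{u}} {F : Type u} [Field F] [IsAlgClosed F]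
    (p : P ⟶ Spec (CommRingCat.of F)) [LocallyQuasiFinite p] (z : P) :
    ∃ s : Spec (CommRingCat.of F) ⟶ P, s ≫ p = 𝟙 _ ∧ s (spt F) = z := by
  obtain ⟨_, ⟨(W : P.Opens), (hW : IsAffineOpen W), rfl⟩, hzW, -⟩ :=
    P.isBasis_affineOpens.exists_subset_of_mem_open (Set.mem_univ z) isOpen_univ
  obtain ⟨φ, hφ⟩ := Spec.map_surjective (hW.fromSpec ≫ p)
  haveI : LocallyQuasiFinite (Spec.map φ) := by rw [hφ]; infer_instance
  have hfin : IsFinite (Spec.map φ) := IsFinite.of_locallyQuasiFinite _
  rw [IsFinite.SpecMap_iff] at hfin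
  letI : Algebra F Γ(P, W) := φ.hom.toAlgebra
  haveI : Module.Finite F Γ(P, W) := hfin
  let 𝔭 := (hW.primeIdealOf ⟨z, hzW⟩).asIdeal
  have hb := IsAlgClosed.algebraMap_bijective_of_isIntegral (k := F) (K := Γ(P, W) ⧸ 𝔭)
  let e := RingEquiv.ofBijective _ hb
  let π : Γ(P, W) ⟶ CommRingCat.of F :=
    CommRingCat.ofHom (e.symm.toRingHom.comp (Ideal.Quotient.mk 𝔭))
  refine ⟨Spec.map π ≫ hW.fromSpec, ?_, ?_⟩
  · rw [Category.assoc, ← hφ, ← Spec.map_comp, ← Spec.map_id]
    congr 1
    refine CommRingCat.hom_ext (RingHom.ext fun t => ?_)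
    exact e.symm_apply_apply t
  · rw [Scheme.Hom.comp_apply]
    refine (congrArg hW.fromSpec (PrimeSpectrum.ext ?_ : Spec.map π (spt F) = hW.primeIdealOf ⟨z, hzW⟩)).trans
      (hW.fromSpec_primeIdealOf ⟨z, hzW⟩)
    show Ideal.comap (e.symm.toRingHom.comp (Ideal.Quotient.mk 𝔭)) (maximalIdeal F) = 𝔭
    rw [maximalIdeal_eq_bot]
    ext t
    simp [Ideal.mem_comap, Ideal.Quotient.eq_zero_iff_mem]

theorem card_gPts_eq_card_pullback (f : X ⟶ Y) [LocallyQuasiFinite f] {F : Type u} [Field F]
    [IsAlgClosed F] (g : Spec (CommRingCat.of F) ⟶ Y) :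
    ENat.card (GPts f g) = ENat.card ↥(pullback f g) := by
  refine ENat.card_congr (Equiv.ofBijective
    (fun a => pullback.lift a.1 (𝟙 _) (by rw [a.2, Category.id_comp]) (spt F)) ⟨?_, ?_⟩)
  · intro a b h
    have := section_ext' (pullback.snd f g) (pullback.lift_snd _ _ _) (pullback.lift_snd _ _ _) h
    exact Subtype.ext ((pullback.lift_fst _ _ _).symm.trans
      ((congrArg (· ≫ pullback.fst f g) this).trans (pullback.lift_fst _ _ _)))
  · intro z
    obtain ⟨l, hl, hlz⟩ := exists_section_through (pullback.snd f g) z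
    refine ⟨⟨l ≫ pullback.fst f g, by rw [Category.assoc, pullback.condition, reassoc_of% hl]⟩, ?_⟩
    have hm : pullback.lift (l ≫ pullback.fst f g) (𝟙 _)
        (by rw [Category.assoc, pullback.condition, reassoc_of% hl, Category.id_comp]) = l :=
      pullback.hom_ext (pullback.lift_fst _ _ _) ((pullback.lift_snd _ _ _).trans hl.symm)
    exact (congrArg (fun m : Spec (CommRingCat.of F) ⟶ pullback f g => m (spt F)) hm).trans hlz

theorem discreteTopology_over_field {P : Scheme.{u}} {F : Type u} [Field F]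
    (p : P ⟶ Spec (CommRingCat.of F)) [LocallyQuasiFinite p] : DiscreteTopology P := by
  have h := p.isDiscrete_preimage_singleton (spt F)
  rw [show p ⁻¹' {spt F} = Set.univ from Set.eq_univ_of_forall fun a => Subsingleton.elim (α := PrimeSpectrum F) _ _] at h
  exact isDiscrete_univ_iff.mp h

/-- The number of geometric points of a fibre, computed in any algebraically closed field. -/
theorem nGeomConnComp_eq (f : X ⟶ Y) [LocallyQuasiFinite f] {F : Type u} [Field F] [IsAlgClosed F]
    (τ : Spec (CommRingCat.of F) ⟶ Y) :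
    MoreMor.nGeomConnComp f (τ (spt F)) = ENat.card (GPts f τ) := by
  rw [card_gPts_eq_card_pullback, ← (Triage.GeomCount.nGeom_baseChange f (pullback.snd f τ)
    (pullback.fst f τ) τ (IsPullback.of_hasPullback f τ) (spt F)).2]
  let p := pullback.snd f τ
  let S := Spec (CommRingCat.of F)
  let Ω := SeparableClosure (S.residueField (spt F))
  let b : Spec (CommRingCat.of Ω) ⟶ S :=
    Spec.map (CommRingCat.ofHom (algebraMap (S.residueField (spt F)) Ω)) ≫ S.fromSpecResidueField (spt F)
  obtain ⟨φ, hφ⟩ := Spec.map_surjective b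
  letI : Algebra F Ω := φ.hom.toAlgebra
  haveI : GeometricallyConnected b := by
    rw [← hφ]
    exact GeomConn5.geometricallyConnected_spec_field F Ω fun x hx =>
      Triage.GeomCount.range_of_sepClosed F Ω x hx
  haveI : UniversallyOpen b := by rw [← hφ]; exact VarGeom.universallyOpen_of_field _
  haveI : Surjective b := ⟨fun s => ⟨spt Ω, Subsingleton.elim (α := PrimeSpectrum F) _ _⟩⟩
  let π : MoreMor.geomFiber p (spt F) ⟶ pullback f τ :=
    (pullbackLeftPullbackSndIso p (S.fromSpecResidueField (spt F))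
      (Spec.map (CommRingCat.ofHom (algebraMap (S.residueField (spt F)) Ω)))).hom ≫ pullback.fst p b
  haveI := discreteTopology_over_field p
  rw [← MorLib.GP.card_connectedComponents_of_discrete ↥(pullback f τ)]
  let E := (pullbackLeftPullbackSndIso p (S.fromSpecResidueField (spt F))
      (Spec.map (CommRingCat.ofHom (algebraMap (S.residueField (spt F)) Ω)))).schemeIsoToHomeo
  let q := pullback.fst p b
  refine (Triage.GeomCount.card_connectedComponents_eq E E.continuous E.surjective
    fun w => E.isPreconnected_preimage.2 isPreconnected_connectedComponent).trans ?_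
  exact Triage.GeomCount.card_connectedComponents_eq q q.continuous q.surjective fun w =>
    (q.isConnected_preimage q.isOpenMap isConnected_connectedComponent isClosed_connectedComponent).isPreconnected

/-- An algebraically closed point over a point. -/
def acPt (y : Y) : Spec (CommRingCat.of (AlgebraicClosure (Y.residueField y))) ⟶ Y :=
  Spec.map (CommRingCat.ofHom (algebraMap (Y.residueField y) (AlgebraicClosure (Y.residueField y)))) ≫
    Y.fromSpecResidueField y

theorem acPt_apply (y : Y) : acPt y (spt _) = y := by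
  rw [acPt, Scheme.Hom.comp_apply, Scheme.fromSpecResidueField_apply]

/-- Complement of the diagonal. -/
def offD (f : X ⟶ Y) [IsSeparated f] : (pullback f f).Opens :=
  ⟨(Set.range (pullback.diagonal f))ᶜ,
    (pullback.diagonal f).isClosedEmbedding.isClosed_range.isOpen_compl⟩

/-- First projection away from the diagonal. -/
abbrev offM (f : X ⟶ Y) [IsSeparated f] : (offD f).toScheme ⟶ X := (offD f).ι ≫ pullback.fst f f

theorem card_gPts_succ (f : X ⟶ Y) [IsSeparated f] {K : Type u} [Field K]
    (a : Spec (CommRingCat.of K) ⟶ X) :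
    ENat.card (GPts f (a ≫ f)) = ENat.card (GPts (offM f) a) + 1 := by
  classical
  let a₀ : GPts f (a ≫ f) := ⟨a, rfl⟩
  rw [← ENat.card_congr (Equiv.optionSubtypeNe a₀)]
  have key : ENat.card (GPts (offM f) a) = ENat.card {b : GPts f (a ≫ f) // b ≠ a₀} := by
    refine ENat.card_congr (Equiv.ofBijective
      (fun c => ⟨⟨c.1 ≫ (offD f).ι ≫ pullback.snd f f, by
        have := congrArg (· ≫ f) c.2
        simp only [Category.assoc] at this ⊢
        rw [← pullback.condition]
        exact this⟩, fun h => ?_⟩) ⟨?_, ?_⟩)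
    · have hc : c.1 ≫ (offD f).ι ≫ pullback.snd f f = a := congrArg Subtype.val h
      have e : c.1 ≫ (offD f).ι = a ≫ pullback.diagonal f := pullback.hom_ext
        (by rw [Category.assoc, c.2, Category.assoc, pullback.diagonal_fst, Category.comp_id])
        (by rw [Category.assoc, hc, Category.assoc, pullback.diagonal_snd, Category.comp_id])
      have hmem : (c.1 ≫ (offD f).ι) (spt K) ∈ offD f := (c.1 (spt K)).2
      rw [e] at hmem
      exact hmem ⟨a (spt K), rfl⟩
    · intro c d h
      have h' : c.1 ≫ (offD f).ι ≫ pullback.snd f f = d.1 ≫ (offD f).ι ≫ pullback.snd f f :=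
        congrArg (fun z => z.1.1) h
      refine Subtype.ext ((cancel_mono (offD f).ι).1 (pullback.hom_ext ?_ (by simpa using h')))
      rw [Category.assoc, Category.assoc]
      exact c.2.trans d.2.symm
    · rintro ⟨b, hb⟩
      let m := pullback.lift a b.1 b.2.symm
      have hr : Set.range m ⊆ Set.range (offD f).ι := by
        rintro _ ⟨p, rfl⟩
        rw [Scheme.Opens.range_ι]
        rintro ⟨x, hx⟩
        apply hb
        obtain ⟨z, hz⟩ := H23.RedSub.exists_lift_closed m (pullback.diagonal f) (by
          rintro _ ⟨q, rfl⟩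
          exact ⟨x, hx.trans (congrArg m (Subsingleton.elim (α := PrimeSpectrum K) _ _))⟩)
        refine Subtype.ext ?_
        calc b.1 = m ≫ pullback.snd f f := (pullback.lift_snd _ _ _).symm
          _ = m ≫ pullback.fst f f := by
              rw [← hz, Category.assoc, Category.assoc, pullback.diagonal_fst, pullback.diagonal_snd]
          _ = a := pullback.lift_fst _ _ _
      refine ⟨⟨IsOpenImmersion.lift (offD f).ι m hr, by
        rw [IsOpenImmersion.lift_fac_assoc]; exact pullback.lift_fst _ _ _⟩, ?_⟩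
      refine Subtype.ext (Subtype.ext ?_)
      show IsOpenImmersion.lift (offD f).ι m hr ≫ (offD f).ι ≫ pullback.snd f f = b.1
      rw [IsOpenImmersion.lift_fac_assoc]
      exact pullback.lift_snd _ _ _
  rw [key]
  simp [ENat.card, Cardinal.mk_option]

theorem nGeomConnComp_succ (f : X ⟶ Y) [IsSeparated f] [LocallyQuasiFinite f] (x : X) :
    MoreMor.nGeomConnComp f (f x) = MoreMor.nGeomConnComp (offM f) x + 1 := by
  have h := card_gPts_succ f (acPt x)
  rw [← nGeomConnComp_eq, ← nGeomConnComp_eq, Scheme.Hom.comp_apply, acPt_apply] at h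
  exact h

theorem isUnivOpenAt_of_universallyOpen (f : X ⟶ Y) [UniversallyOpen f] (x : X) : EGA43.IsUnivOpenAt f x :=
  fun _ g _ _ _ hU => (pullback.snd f g).isOpenMap.image_mem_nhds hU

/-- Lower semicontinuity of the number of geometric points at a point where the morphism is universally open. -/
theorem le_nGeomConnComp_mem_nhds (n : ℕ) : ∀ {X Y : Scheme.{u}} (f : X ⟶ Y) [IsSeparated f]
    [LocallyQuasiFinite f] (y : Y), (∀ x, f x = y → EGA43.IsUnivOpenAt f x) →
      (n : ℕ∞) ≤ MoreMor.nGeomConnComp f y →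
      {z | (n : ℕ∞) ≤ MoreMor.nGeomConnComp f z} ∈ nhds y := by
  induction n with
  | zero => intro X Y f _ _ y _ _; simp
  | succ n ih =>
    intro X Y f _ _ y hop hn
    obtain ⟨x, hx⟩ : ∃ x, f x = y := by
      have h1 : 1 ≤ ENat.card (GPts f (acPt y)) := by
        rw [← nGeomConnComp_eq, acPt_apply]
        exact le_trans (by exact_mod_cast Nat.le_add_left 1 n) hn
      obtain ⟨a⟩ := (ENat.one_le_card_iff_nonempty _).1 h1
      exact ⟨a.1 (spt _), (Scheme.Hom.comp_apply _ _ _).symm.trans
        ((congrArg (fun m : _ ⟶ Y => m (spt _)) a.2).trans (acPt_apply y))⟩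
    subst hx
    rw [nGeomConnComp_succ, Nat.cast_add, Nat.cast_one] at hn
    have hN := ih (offM f) x (fun w hw => ?_) ((ENat.add_le_add_iff_right ENat.one_ne_top).1 hn)
    · have ho : EGA43.IsOpenAt f.base x :=
        QHomeo.univOpenAt_openAt (hop x rfl) (IsPullback.id_horiz f) x rfl
      refine Filter.mem_of_superset (ho _ hN) ?_
      rintro _ ⟨w, hw, rfl⟩
      show ((n + 1 : ℕ) : ℕ∞) ≤ MoreMor.nGeomConnComp f (f w)
      rw [nGeomConnComp_succ, Nat.cast_add, Nat.cast_one]
      exact add_le_add hw le_rfl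
    · refine QHomeo.univOpenAt_comp (isUnivOpenAt_of_universallyOpen _ w) ?_
      refine QHomeo.univOpenAt_of_isPullback (hop (pullback.snd f f ((offD f).ι w)) ?_)
        (IsPullback.of_hasPullback f f).flip _ rfl
      rw [← hw]
      exact ((Scheme.Hom.comp_apply _ _ _).symm.trans
        (congrArg (fun m : pullback f f ⟶ Y => m ((offD f).ι w)) pullback.condition.symm)).trans
        (Scheme.Hom.comp_apply _ _ _)

theorem nGeomConnComp_lt_top (f : X ⟶ Y) [LocallyQuasiFinite f] [QuasiCompact f] (y : Y) :
    MoreMor.nGeomConnComp f y < ⊤ := by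
  have h := nGeomConnComp_eq f (acPt y)
  rw [acPt_apply, card_gPts_eq_card_pullback] at h
  rw [h, ENat.card_lt_top]
  haveI := discreteTopology_over_field (pullback.snd f (acPt y))
  haveI : CompactSpace ↥(pullback f (acPt y)) := QuasiCompact.compactSpace_of_compactSpace (pullback.snd f (acPt y))
  exact finite_of_compact_of_discrete

end Groth.Agent.H1Near
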