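import Groth.Agent.H1Near.Stein
import Groth.Agent.FlatMisc.DvrConn
import Groth.Agent.Proj16.DVRPath
import Groth.Agent.UnivOpenDvr5.Core
import Groth.Agent.S4514

/-!
# Geometric connected components near a geometrically reduced fibre of universal openness
-/

universe u

open CategoryTheory CategoryTheory.Limits AlgebraicGeometry TopologicalSpace Topology IsLocalRing
open scoped TensorProduct

noncomputable section

namespace Groth.Agent.H1Near

/-- An element generating a radical ideal is regular when it is schematically dense up to nilpotents. -/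
theorem eq_zero_of_radical {B : Type u} [CommRing B] [IsNoetherianRing B] {t : B}
    (hrad : (Ideal.span {t}).IsRadical) (H : ∀ (n : ℕ) (a : B), t ^ n * a = 0 → IsNilpotent a)
    {a : B} (ha : t * a = 0) : a = 0 := by
  let K : ℕ →o Ideal B :=
    { toFun := fun n => (LinearMap.mulLeft B (t ^ n)).ker
      monotone' := fun n m hnm b hb => by
        simp only [LinearMap.mem_ker, LinearMap.mulLeft_apply] at hb ⊢
        obtain ⟨d, rfl⟩ := Nat.exists_eq_add_of_le hnm
        rw [pow_add, mul_right_comm, hb, zero_mul] }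
  obtain ⟨N, hN⟩ := monotone_stabilizes_iff_noetherian.2 (inferInstance : IsNoetherian B B) K
  have key : ∀ n, ∃ c, a = t ^ n * c ∧ t ^ (n + 1) * c = 0 := by
    intro n
    induction n with
    | zero => exact ⟨a, by simp, by simpa using ha⟩
    | succ n ih =>
      obtain ⟨c, hc1, hc2⟩ := ih
      obtain ⟨m, hm⟩ := H _ _ hc2
      obtain ⟨c', rfl⟩ := Ideal.mem_span_singleton.1 (hrad (show c ∈ (Ideal.span {t}).radical from
        ⟨m, by rw [hm]; exact Submodule.zero_mem _⟩))
      exact ⟨c', by rw [hc1, pow_succ]; ring, by rw [← hc2]; ring⟩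
  obtain ⟨c, hc1, hc2⟩ := key N
  have : c ∈ K N := (hN (N + 1) (Nat.le_succ N)).symm ▸ (show c ∈ K (N + 1) from hc2)
  exact hc1.trans this

theorem finrank_le_card_algHom {R A : Type u} [CommRing R] [IsLocalRing R] [IsAlgClosed (ResidueField R)]
    [CommRing A] [Algebra R A] [Module.Free R A] [Module.Finite R A]
    (h : ((maximalIdeal R).map (algebraMap R A)).IsRadical) :
    Module.finrank R A ≤ Nat.card (A →ₐ[R] ResidueField R) := by
  let B := ResidueField R ⊗[R] A
  haveI : IsArtinianRing B := IsArtinianRing.of_finite (ResidueField R) B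
  haveI : _root_.IsReduced B := by
    haveI : _root_.IsReduced (A ⧸ (maximalIdeal R).map (algebraMap R A)) :=
      (Ideal.isRadical_iff_quotient_reduced _).1 h
    let e : B ≃+* A ⧸ (maximalIdeal R).map (algebraMap R A) :=
      (Algebra.TensorProduct.comm R (R ⧸ maximalIdeal R) A).toRingEquiv.trans
        (Algebra.TensorProduct.quotIdealMapEquivTensorQuot A (maximalIdeal R)).symm.toRingEquiv
    exact isReduced_of_injective e e.injective
  let Ψ : B →ₗ[ResidueField R] ((B →ₐ[ResidueField R] ResidueField R) → ResidueField R) :=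
    LinearMap.pi fun φ => φ.toLinearMap
  have hΨ : Function.Injective Ψ := by
    refine LinearMap.ker_eq_bot.1 ((Submodule.eq_bot_iff _).2 fun b hb => ?_)
    have hn : b ∈ nilradical B := by
      rw [nilradical_eq_sInf]
      refine Submodule.mem_sInf.2 fun (P : Ideal B) hP => ?_
      haveI : P.IsPrime := hP
      haveI : P.IsMaximal := IsArtinianRing.isMaximal_of_isPrime P
      letI := Ideal.Quotient.field P
      letI : Algebra (ResidueField R) (B ⧸ P) := Ideal.Quotient.algebra _
      let ε := AlgEquiv.ofBijective (Algebra.ofId (ResidueField R) (B ⧸ P))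
        (IsAlgClosed.algebraMap_bijective_of_isIntegral (k := ResidueField R) (K := B ⧸ P))
      have := congrFun (LinearMap.mem_ker.1 hb) (ε.symm.toAlgHom.comp (Ideal.Quotient.mkₐ (ResidueField R) P))
      exact Ideal.Quotient.eq_zero_iff_mem.1 (ε.symm.injective (this.trans (map_zero _).symm))
    exact IsReduced.eq_zero b (mem_nilradical.1 hn)
  haveI : Finite (A →ₐ[R] ResidueField R) := Finite.algHom R A (ResidueField R)
  let res : (B →ₐ[ResidueField R] ResidueField R) → (A →ₐ[R] ResidueField R) := fun φ =>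
    (φ.restrictScalars R).comp Algebra.TensorProduct.includeRight
  have hres : Function.Injective res := fun φ ψ h =>
    Algebra.TensorProduct.ext (Subsingleton.elim _ _) h
  haveI : Finite (B →ₐ[ResidueField R] ResidueField R) := Finite.of_injective res hres
  haveI := Fintype.ofFinite (B →ₐ[ResidueField R] ResidueField R)
  calc Module.finrank R A = Module.finrank (ResidueField R) B := Module.finrank_baseChange.symm
    _ ≤ Module.finrank (ResidueField R) ((B →ₐ[ResidueField R] ResidueField R) → ResidueField R) :=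
      LinearMap.finrank_le_finrank_of_injective hΨ
    _ = Nat.card (B →ₐ[ResidueField R] ResidueField R) := by
      rw [Module.finrank_pi, Nat.card_eq_fintype_card]
    _ ≤ Nat.card (A →ₐ[R] ResidueField R) := Nat.card_le_card_of_injective res hres

section DVR

variable {R : Type u} [CommRing R] {X : Scheme.{u}} (f : X ⟶ Spec (CommRingCat.of R))

/-- A constant of the base as a function on an open. -/
abbrev cst (W : X.Opens) : R →+* Γ(X, W) :=
  ((Scheme.ΓSpecIso (CommRingCat.of R)).inv ≫ f.appLE ⊤ W (by simp)).hom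

theorem cst_res {W W' : X.Opens} (i : W' ⟶ W) (r : R) :
    X.presheaf.map i.op (cst f W r) = cst f W' r := by
  show ((Scheme.ΓSpecIso (CommRingCat.of R)).inv ≫ f.appLE ⊤ W (by simp) ≫ X.presheaf.map i.op).hom r = _
  rw [Scheme.Hom.appLE_map]

variable [IsDomain R] [IsDiscreteValuationRing R] [IsLocallyNoetherian X]
  (hop : ∀ x, f x = closedPoint R → EGA43.IsOpenAt f.base x)
  [hred : AlgebraicGeometry.IsReduced (f.fiber (closedPoint R))] {π : R} (hπ : Irreducible π)

include hπ in
theorem isRadical_span_cst {V : X.Opens} (hV : IsAffineOpen V) : (Ideal.span {cst f V π}).IsRadical := by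
  haveI : (closedPoint R).asIdeal.IsMaximal := maximalIdeal.isMaximal R
  have := FlatMisc.isRadical_map_of_fiber_Spec f hV (closedPoint R) hred
  rwa [show (closedPoint R).asIdeal = maximalIdeal R from rfl, hπ.maximalIdeal_eq, Ideal.map_span,
    Set.image_singleton] at this

include hop hπ in
theorem isNilpotent_of_cst_pow_mul {V : X.Opens} (hV : IsAffineOpen V) (n : ℕ) (a : Γ(X, V))
    (ha : cst f V π ^ n * a = 0) : IsNilpotent a := by
  have hall : ∀ x, x ∈ X.basicOpen a → f x = closedPoint R := by
    intro x hx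
    obtain ⟨P, rfl⟩ : x ∈ Set.range hV.fromSpec := by
      rw [hV.range_fromSpec]; exact X.basicOpen_le a hx
    have hP : a ∉ P.asIdeal := by
      have : P ∈ hV.fromSpec ⁻¹ᵁ X.basicOpen a := hx
      rwa [hV.fromSpec_preimage_basicOpen] at this
    have hπP : cst f V π ∈ P.asIdeal := by
      rcases P.isPrime.mem_or_mem (ha.symm ▸ P.asIdeal.zero_mem : cst f V π ^ n * a ∈ P.asIdeal) with h | h
      · exact P.isPrime.mem_of_pow_mem n h
      · exact absurd h hP
    have hcomm : Spec.map ((Scheme.ΓSpecIso (CommRingCat.of R)).inv ≫ f.appLE ⊤ V (by simp)) =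
        hV.fromSpec ≫ f := by
      rw [← (isAffineOpen_top (Spec (CommRingCat.of R))).SpecMap_appLE_fromSpec f hV (by simp),
        Spec.map_comp, IsAffineOpen.fromSpec_top, Scheme.isoSpec_Spec_inv]
    rw [← Scheme.Hom.comp_apply, ← hcomm]
    refine PrimeSpectrum.ext ((maximalIdeal.isMaximal R).eq_of_le (Ideal.IsPrime.ne_top ?_) ?_).symm
    · exact (Spec.map _ P).isPrime
    · rw [hπ.maximalIdeal_eq, Ideal.span_singleton_le_iff_mem]
      exact hπP
  rw [Scheme.isNilpotent_iff_basicOpen_eq_bot_of_isCompact hV.isCompact]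
  refine TopologicalSpace.Opens.ext (Set.eq_empty_of_forall_notMem fun x hx => ?_)
  have hN := hop x (hall x hx) _ ((X.basicOpen a).isOpen.mem_nhds hx)
  rw [hall x hx] at hN
  obtain ⟨z, hz, hzη⟩ : genericPoint (Spec (CommRingCat.of R)) ∈ f.base '' X.basicOpen a :=
    interior_subset (((genericPoint_spec (Spec (CommRingCat.of R))).specializes
      (Set.mem_univ (closedPoint R))).mem_open isOpen_interior (mem_interior_iff_mem_nhds.2 hN))
  have := (hall z hz).symm.trans hzη
  rw [genericPoint_eq_bot_of_affine] at this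
  exact IsDiscreteValuationRing.not_a_field R (congrArg PrimeSpectrum.asIdeal this)

include hop hπ in
theorem eq_zero_of_cst_mul (W : X.Opens) {a : Γ(X, W)} (ha : cst f W π * a = 0) : a = 0 := by
  refine X.sheaf.eq_of_locally_eq' (fun V : {V : X.affineOpens // V.1 ≤ W} => V.1.1) W
    (fun V => homOfLE V.2) (fun x hx => ?_) a 0 fun V => ?_
  · obtain ⟨_, ⟨(V : X.Opens), hV : IsAffineOpen V, rfl⟩, hxV, hVW⟩ :=
      X.isBasis_affineOpens.exists_subset_of_mem_open hx W.isOpen
    exact Opens.mem_iSup.2 ⟨⟨⟨V, hV⟩, hVW⟩, hxV⟩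
  · rw [map_zero]
    haveI := IsLocallyNoetherian.component_noetherian V.1
    refine eq_zero_of_radical (isRadical_span_cst f hπ V.1.2)
      (fun n b hb => isNilpotent_of_cst_pow_mul f hop hπ V.1.2 n b hb) ?_
    have := congrArg (X.presheaf.map (homOfLE V.2).op) ha
    rw [map_mul, map_zero, cst_res] at this
    exact this

include hop hπ in
theorem isRadical_span_cst_top : (Ideal.span {cst f (⊤ : X.Opens) π}).IsRadical := by
  rintro a ⟨n, hn⟩
  obtain ⟨c, hc⟩ := Ideal.mem_span_singleton.1 hn
  have hloc : ∀ V : X.affineOpens, ∃ b : Γ(X, V.1),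
      X.presheaf.map (homOfLE le_top).op a = cst f V.1 π * b := fun V => by
    refine Ideal.mem_span_singleton.1 (isRadical_span_cst f hπ V.2 ⟨n, Ideal.mem_span_singleton.2
      ⟨X.presheaf.map (homOfLE le_top).op c, ?_⟩⟩)
    rw [← map_pow, hc, map_mul, cst_res]
  choose b hb using hloc
  have key : ∀ (V : X.affineOpens) (W : X.Opens) (i : W ⟶ V.1),
      cst f W π * X.presheaf.map i.op (b V) = X.presheaf.map (homOfLE le_top).op a := fun V W i => by
    rw [← cst_res f i, ← map_mul, ← hb, ← ConcreteCategory.comp_apply, ← Functor.map_comp]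
    rfl
  have hcov : (⊤ : X.Opens) ≤ ⨆ V : X.affineOpens, V.1 := by rw [iSup_affineOpens_eq_top]
  obtain ⟨B, hB, -⟩ := X.sheaf.existsUnique_gluing' (fun V : X.affineOpens => V.1) ⊤
    (fun V => homOfLE le_top) hcov b (by
      intro V V'
      rw [← sub_eq_zero]
      refine eq_zero_of_cst_mul f hop hπ _ ?_
      refine (mul_sub _ _ _).trans (sub_eq_zero.2 ?_)
      exact (key V _ (Opens.infLELeft V.1 V'.1)).trans (key V' _ (Opens.infLERight V.1 V'.1)).symm)
  let B' : Γ(X, ⊤) := B
  refine Ideal.mem_span_singleton.2 ⟨B', X.sheaf.eq_of_locally_eq' (fun V : X.affineOpens => V.1) ⊤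
    (fun V => homOfLE le_top) hcov _ _ fun V => ?_⟩
  show X.presheaf.map (homOfLE le_top).op a = X.presheaf.map (homOfLE le_top).op (cst f ⊤ π * B')
  rw [map_mul, cst_res]
  exact (hb V).trans (congrArg (cst f V.1 π * ·) (hB V).symm)

end DVR

theorem comap_generic {R S : Type u} [CommRing R] [IsDomain R] [CommRing S] [IsDomain S] (i : R →+* S)
    (hi : Function.Injective i) :
    Spec.map (CommRingCat.ofHom i) (genericPoint (Spec (CommRingCat.of S))) =
      genericPoint (Spec (CommRingCat.of R)) := by
  rw [genericPoint_eq_bot_of_affine, genericPoint_eq_bot_of_affine]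
  refine PrimeSpectrum.ext ?_
  show Ideal.comap i ⊥ = ⊥
  exact Ideal.comap_bot_of_injective i hi

theorem card_gPts_affine {N : Scheme.{u}} [IsAffine N] {R : Type u} [CommRing R]
    (g : N ⟶ Spec (CommRingCat.of R)) [Algebra R Γ(N, ⊤)]
    (hg : g = N.isoSpec.hom ≫ Spec.map (CommRingCat.ofHom (algebraMap R Γ(N, ⊤))))
    {F : Type u} [Field F] [Algebra R F] :
    ENat.card (GPts g (Spec.map (CommRingCat.ofHom (algebraMap R F)))) =
      ENat.card (Γ(N, ⊤) →ₐ[R] F) := by
  refine ENat.card_congr (Equiv.ofBijective (fun a => AlgHom.mk (Spec.preimage (a.1 ≫ N.isoSpec.hom)).hom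
    (fun r => ?_)) ⟨fun a b h => ?_, fun θ => ?_⟩)
  · have h1 : CommRingCat.ofHom (algebraMap R Γ(N, ⊤)) ≫ Spec.preimage (a.1 ≫ N.isoSpec.hom) =
        CommRingCat.ofHom (algebraMap R F) := by
      refine Spec.map_injective ?_
      rw [Spec.map_comp, Spec.map_preimage, Category.assoc, ← hg]
      exact a.2
    exact ConcreteCategory.congr_hom h1 r
  · have h1 : Spec.preimage (a.1 ≫ N.isoSpec.hom) = Spec.preimage (b.1 ≫ N.isoSpec.hom) :=
      CommRingCat.hom_ext (congrArg AlgHom.toRingHom h)
    have h2 := congrArg Spec.map h1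
    rw [Spec.map_preimage, Spec.map_preimage, cancel_mono] at h2
    exact Subtype.ext h2
  · refine ⟨⟨Spec.map (CommRingCat.ofHom θ.toRingHom) ≫ N.isoSpec.inv, ?_⟩, ?_⟩
    · rw [hg, Category.assoc, Iso.inv_hom_id_assoc, ← Spec.map_comp, ← CommRingCat.ofHom_comp]
      exact congrArg (fun i => Spec.map (CommRingCat.ofHom i)) θ.comp_algebraMap
    · apply AlgHom.ext
      intro r
      simp only [AlgHom.coe_mk, Category.assoc, Iso.inv_hom_id, Category.comp_id, Spec.preimage_map]
      rfl

/-- Over a discrete valuation ring with algebraically closed residue field. -/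
theorem nGeomConnComp_generic_le {R : Type u} [CommRing R] [IsDomain R] [IsDiscreteValuationRing R]
    [IsAlgClosed (ResidueField R)] {X : Scheme.{u}} (f : X ⟶ Spec (CommRingCat.of R)) [IsProper f]
    (hop : ∀ x, f x = closedPoint R → EGA43.IsOpenAt f.base x)
    [hred : AlgebraicGeometry.IsReduced (f.fiber (closedPoint R))] :
    MoreMor.nGeomConnComp f (genericPoint (Spec (CommRingCat.of R))) ≤
      MoreMor.nGeomConnComp f (closedPoint R) := by
  obtain ⟨π, hπ⟩ := IsDiscreteValuationRing.exists_irreducible R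
  haveI : IsLocallyNoetherian X := LocallyOfFiniteType.isLocallyNoetherian f
  haveI : IsFinite f.fromNormalization := S1297.result f
  haveI : IsAffine f.normalization := isAffine_of_isAffineHom f.fromNormalization
  let N := f.normalization
  let g := f.fromNormalization
  letI : Algebra R Γ(N, ⊤) := ((Scheme.ΓSpecIso (CommRingCat.of R)).inv ≫ g.appTop).hom.toAlgebra
  have hg : g = N.isoSpec.hom ≫ Spec.map (CommRingCat.ofHom (algebraMap R Γ(N, ⊤))) := by
    show g = N.isoSpec.hom ≫ Spec.map ((Scheme.ΓSpecIso (CommRingCat.of R)).inv ≫ g.appTop)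
    rw [Spec.map_comp, Scheme.isoSpec_hom_naturality_assoc, ← Scheme.isoSpec_Spec_inv, Iso.hom_inv_id,
      Category.comp_id]
  haveI : Module.Finite R Γ(N, ⊤) := by
    refine RingHom.finite_algebraMap.1 ?_
    have h1 : IsFinite (Spec.map (CommRingCat.ofHom (algebraMap R Γ(N, ⊤)))) := by
      rw [← MorphismProperty.cancel_left_of_respectsIso @IsFinite N.isoSpec.hom, ← hg]; infer_instance
    exact (IsFinite.SpecMap_iff _).1 h1
  haveI := FlatMisc.isIso_toNormalization_app f ⊤
  let e : Γ(N, ⊤) →+* Γ(X, ⊤) := f.toNormalization.appTop.hom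
  have he : Function.Bijective e := ConcreteCategory.bijective_of_isIso (f.toNormalization.app ⊤)
  have hcst : ∀ r, e (algebraMap R Γ(N, ⊤) r) = cst f ⊤ r := fun r => by
    show ((Scheme.ΓSpecIso (CommRingCat.of R)).inv ≫ g.appTop ≫ f.toNormalization.appTop).hom r = _
    rw [← Scheme.Hom.comp_appTop, f.toNormalization_fromNormalization, Scheme.Hom.appTop, Scheme.Hom.app_eq_appLE]
    rfl
  haveI : Module.IsTorsionFree R Γ(N, ⊤) := by
    refine Module.isTorsionFree_iff_smul_eq_zero.2 fun r a h => ?_
    by_cases hr : r = 0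
    · exact Or.inl hr
    right
    obtain ⟨n, v, rfl⟩ := IsDiscreteValuationRing.eq_unit_mul_pow_irreducible hr hπ
    refine he.1 ((?_ : e a = 0).trans (map_zero e).symm)
    have h1 : cst f ⊤ π ^ n * e a = 0 := by
      have := congrArg e h
      rw [Algebra.smul_def, map_mul, hcst, map_mul, map_pow, map_zero, mul_assoc] at this
      exact (v.isUnit.map (cst f ⊤)).mul_right_eq_zero.1 this
    suffices key : ∀ (m : ℕ) (b : Γ(X, ⊤)), cst f ⊤ π ^ m * b = 0 → b = 0 from key n _ h1
    intro m
    induction m with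
    | zero => intro b hb; simpa using hb
    | succ m ih => exact fun b hb => eq_zero_of_cst_mul f hop hπ _ (ih _ (by rw [← hb, pow_succ, mul_assoc]))
  haveI : Module.Free R Γ(N, ⊤) := Module.free_of_finite_type_torsion_free'
  have hrad : ((maximalIdeal R).map (algebraMap R Γ(N, ⊤))).IsRadical := by
    rw [hπ.maximalIdeal_eq, Ideal.map_span, Set.image_singleton]
    rintro a ⟨n, hn⟩
    obtain ⟨c, hc⟩ := Ideal.mem_span_singleton.1 hn
    obtain ⟨b, hb⟩ := Ideal.mem_span_singleton.1 (isRadical_span_cst_top f hop hπ ⟨n,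
      Ideal.mem_span_singleton.2 ⟨e c, by rw [← map_pow, hc, map_mul, hcst]⟩⟩ : e a ∈ Ideal.span {cst f ⊤ π})
    obtain ⟨b, rfl⟩ := he.2 b
    exact Ideal.mem_span_singleton.2 ⟨b, he.1 (by rw [hb, map_mul, hcst])⟩
  let F := AlgebraicClosure (FractionRing R)
  have hη : Spec.map (CommRingCat.ofHom (algebraMap R F)) (spt F) = genericPoint (Spec (CommRingCat.of R)) := by
    refine specMap_subtype_closedPoint _ ?_
    rw [IsScalarTower.algebraMap_eq R (FractionRing R) F, RingHom.coe_comp]
    exact (RingHom.injective _).comp (IsFractionRing.injective R (FractionRing R))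
  have hs : Spec.map (CommRingCat.ofHom (algebraMap R (ResidueField R))) (spt (ResidueField R)) = closedPoint R :=
    IsLocalRing.comap_closedPoint (residue R)
  simp only [nGeomConnComp_fromNormalization f, ← hη, ← hs]
  rw [nGeomConnComp_eq, nGeomConnComp_eq, card_gPts_affine g hg, card_gPts_affine g hg]
  haveI : Finite (Γ(N, ⊤) →ₐ[R] F) := Finite.algHom R Γ(N, ⊤) F
  haveI : Finite (Γ(N, ⊤) →ₐ[R] ResidueField R) := Finite.algHom R Γ(N, ⊤) (ResidueField R)
  rw [ENat.card_eq_coe_natCard, ENat.card_eq_coe_natCard, Nat.cast_le]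
  exact (card_algHom_le_finrank R Γ(N, ⊤) F).trans (finrank_le_card_algHom hrad)

theorem isReduced_fiber_baseChange {X Y Y' : Scheme.{u}} (f : X ⟶ Y) (g : Y' ⟶ Y) (s : Y')
    (h : GeometricallyReduced (f.fiberToSpecResidueField (g s))) :
    AlgebraicGeometry.IsReduced ((pullback.snd f g).fiber s) := by
  have h1 : AlgebraicGeometry.IsReduced (pullback (f.fiberToSpecResidueField (g s))
      (Spec.map (g.residueFieldMap s))) := pullback_of_geometrically h.geometrically_isReduced _ _
  let e : (pullback.snd f g).fiber s ≅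
      pullback (f.fiberToSpecResidueField (g s)) (Spec.map (g.residueFieldMap s)) :=
    pullbackLeftPullbackSndIso f g (Y'.fromSpecResidueField s) ≪≫
      pullback.congrHom rfl (Scheme.Hom.SpecMap_residueFieldMap_fromSpecResidueField g s).symm ≪≫
      (pullbackLeftPullbackSndIso f (Y.fromSpecResidueField (g s)) (Spec.map (g.residueFieldMap s))).symm
  exact isReduced_of_isOpenImmersion e.hom

theorem nGeomConnComp_le_of_specializes {X Y : Scheme.{u}} [IsLocallyNoetherian Y] (f : X ⟶ Y) [IsProper f]
    {y z : Y} (hz : z ⤳ y) (hop : ∀ x, f x = y → EGA43.IsUnivOpenAt f x)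
    (hred : GeometricallyReduced (f.fiberToSpecResidueField y)) :
    MoreMor.nGeomConnComp f z ≤ MoreMor.nGeomConnComp f y := by
  rcases eq_or_ne z y with rfl | hne
  · exact le_rfl
  obtain ⟨V, h, _, hVc, hVg⟩ := Proj16.exists_dvr_path (p := 𝟙 Y) (x := z) (y' := y) hz hne.symm
  let k' := AlgebraicClosure (ResidueField V)
  haveI : IsAdicComplete (maximalIdeal k') k' := by rw [maximalIdeal_eq_bot]; infer_instance
  obtain ⟨A', _, _, _, _, _, -, _, ⟨e⟩⟩ := Groth.Agent.S4514.result (A := V) k'
  obtain ⟨hdom, hdvr, ε, -⟩ := UnivOpenDvr5.dvr_of_flat_field e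
  haveI := hdom
  haveI := hdvr
  haveI : IsAlgClosed (ResidueField A') := IsAlgClosed.of_ringEquiv k' _ ε.symm
  let a : V →+* A' := algebraMap V A'
  have ha : Function.Injective a := FaithfulSMul.algebraMap_injective V A'
  let g : Spec (CommRingCat.of A') ⟶ Y := Spec.map (CommRingCat.ofHom a) ≫ h
  have hgs : g (closedPoint A') = y := by
    show h (Spec.map (CommRingCat.ofHom a) (closedPoint A')) = y
    rw [show Spec.map (CommRingCat.ofHom a) (closedPoint A') = closedPoint V from comap_closedPoint a]
    exact hVc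
  have hgη : g (genericPoint _) = z := by
    show h (Spec.map (CommRingCat.ofHom a) (genericPoint _)) = z
    rw [comap_generic a ha, ← specMap_subtype_closedPoint V.subtype Subtype.val_injective,
      ← Scheme.Hom.comp_apply, hVg, Category.comp_id, Scheme.fromSpecResidueField_apply]
  rw [← hgs, ← hgη, ← (Triage.GeomCount.nGeom_baseChange f (pullback.snd f g) (pullback.fst f g) g
      (IsPullback.of_hasPullback f g) _).2, ← (Triage.GeomCount.nGeom_baseChange f (pullback.snd f g)
      (pullback.fst f g) g (IsPullback.of_hasPullback f g) _).2]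
  haveI := isReduced_fiber_baseChange f g (closedPoint A') (by rw [hgs]; exact hred)
  refine nGeomConnComp_generic_le (pullback.snd f g) fun x hx => ?_
  refine QHomeo.univOpenAt_openAt (hop (pullback.fst f g x) ?_) (IsPullback.of_hasPullback f g) x rfl
  rw [← Scheme.Hom.comp_apply, pullback.condition, Scheme.Hom.comp_apply, hx, hgs]

theorem nGeomConnComp_const_nhds {X Y : Scheme.{u}} [IsLocallyNoetherian Y] (f : X ⟶ Y) [IsProper f] (y : Y)
    (hop : ∀ x, f x = y → EGA43.IsUnivOpenAt f x)
    (hred : GeometricallyReduced (f.fiberToSpecResidueField y)) :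
    {z | MoreMor.nGeomConnComp f z = MoreMor.nGeomConnComp f y} ∈ nhds y := by
  haveI : IsFinite f.fromNormalization := S1297.result f
  obtain ⟨n, hn⟩ := ENat.ne_top_iff_exists.1 (nGeomConnComp_lt_top f.fromNormalization y).ne
  rw [← nGeomConnComp_fromNormalization] at hn
  have hset : {z | MoreMor.nGeomConnComp f z ≤ MoreMor.nGeomConnComp f y} =
      {z | ((n + 1 : ℕ) : ℕ∞) ≤ MoreMor.nGeomConnComp f.fromNormalization z}ᶜ := by
    ext z
    simp only [Set.mem_ofPred_eq, Set.mem_compl_iff, ← nGeomConnComp_fromNormalization, ← hn,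
      not_le, Nat.cast_add, Nat.cast_one]
    exact (ENat.lt_add_one_iff (ENat.coe_ne_top n)).symm
  have hle : {z | MoreMor.nGeomConnComp f z ≤ MoreMor.nGeomConnComp f y} ∈ nhds y := by
    refine FibDim.mem_nhds_of_generizations ?_ fun z hz => nGeomConnComp_le_of_specializes f hz hop hred
    rw [hset]
    intro x
    obtain ⟨U, hU, hUo, hc⟩ := isLocallyConstructible_le_nGeomConnComp (n + 1) f.fromNormalization x
    exact ⟨U, hU, hUo, hc.compl⟩
  filter_upwards [hle, lsc_of_proper f y hop] with z h1 h2 using le_antisymm h1 h2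

end Groth.Agent.H1Near
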