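import Groth.Agent.H1Near.Geom
import Groth.Agent.ZarConn.Basic
import Groth.Agent.FlatMisc.SteinUC
import Groth.Agent.S1297
import Groth.Agent.FibDim.Comp

/-!
# Geometric connected components and the Stein factorisation
-/

universe u

open CategoryTheory CategoryTheory.Limits AlgebraicGeometry TopologicalSpace Topology

noncomputable section

namespace Groth.Agent.H1Near

variable {X Y Z T : Scheme.{u}}

theorem card_cc_comp (h : X ⟶ Z) (g : Z ⟶ Y) [UniversallyClosed h] [GeometricallyConnected h] (t : T ⟶ Y) :
    ENat.card (_root_.ConnectedComponents ↥(pullback (h ≫ g) t)) = ENat.card (_root_.ConnectedComponents ↥(pullback g t)) := by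
  let q := pullback.snd h (pullback.fst g t)
  let E := (pullbackRightPullbackFstIso g t h).schemeIsoToHomeo
  refine (Triage.GeomCount.card_connectedComponents_eq E E.continuous E.surjective
    fun w => E.isPreconnected_preimage.2 isPreconnected_connectedComponent).symm.trans ?_
  refine Triage.GeomCount.card_connectedComponents_eq q q.continuous q.surjective fun w => ?_
  exact ((q.isClosedMap.isQuotientMap q.continuous q.surjective).isCoinducing.isConnected_preimage_of_isClosed
    q.isConnected_preimage_singleton isClosed_connectedComponent isConnected_connectedComponent).isPreconnected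

theorem nGeomConnComp_eq_card_pullback (f : X ⟶ Y) (y : Y) :
    MoreMor.nGeomConnComp f y = ENat.card (_root_.ConnectedComponents ↥(pullback f
      (Spec.map (CommRingCat.ofHom (algebraMap (Y.residueField y) (SeparableClosure (Y.residueField y)))) ≫
        Y.fromSpecResidueField y))) := by
  let E := (pullbackLeftPullbackSndIso f (Y.fromSpecResidueField y)
    (Spec.map (CommRingCat.ofHom (algebraMap (Y.residueField y) (SeparableClosure (Y.residueField y)))))).schemeIsoToHomeo
  exact Triage.GeomCount.card_connectedComponents_eq E E.continuous E.surjective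
    fun w => E.isPreconnected_preimage.2 isPreconnected_connectedComponent

theorem nGeomConnComp_comp (h : X ⟶ Z) (g : Z ⟶ Y) [UniversallyClosed h] [GeometricallyConnected h] (y : Y) :
    MoreMor.nGeomConnComp (h ≫ g) y = MoreMor.nGeomConnComp g y := by
  rw [nGeomConnComp_eq_card_pullback, nGeomConnComp_eq_card_pullback, card_cc_comp]

theorem geometricallyConnected_toNormalization (f : X ⟶ Y) [IsProper f] [IsLocallyNoetherian Y] :
    IsProper f.toNormalization ∧ GeometricallyConnected f.toNormalization := by
  haveI : IsFinite f.fromNormalization := S1297.result f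
  haveI : IsLocallyNoetherian f.normalization := LocallyOfFiniteType.isLocallyNoetherian f.fromNormalization
  haveI : IsProper (f.toNormalization ≫ f.fromNormalization) := by
    rw [f.toNormalization_fromNormalization]; infer_instance
  haveI : IsProper f.toNormalization := IsProper.of_comp f.toNormalization f.fromNormalization
  exact ⟨inferInstance, ZarConn.geometricallyConnected f.toNormalization (FlatMisc.isIso_toNormalization_app f)⟩

/-- The number of geometric connected components of the fibres of a proper morphism is that of the finite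
part of its Stein factorisation. -/
theorem nGeomConnComp_fromNormalization (f : X ⟶ Y) [IsProper f] [IsLocallyNoetherian Y] (y : Y) :
    MoreMor.nGeomConnComp f y = MoreMor.nGeomConnComp f.fromNormalization y := by
  obtain ⟨_, _⟩ := geometricallyConnected_toNormalization f
  conv_lhs => rw [← f.toNormalization_fromNormalization]
  exact nGeomConnComp_comp _ _ y

theorem univOpenAt_fromNormalization (f : X ⟶ Y) [IsProper f] [IsLocallyNoetherian Y] (y : Y)
    (hop : ∀ x, f x = y → EGA43.IsUnivOpenAt f x) (z : f.normalization) (hz : f.fromNormalization z = y) :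
    EGA43.IsUnivOpenAt f.fromNormalization z := by
  obtain ⟨_, _⟩ := geometricallyConnected_toNormalization f
  obtain ⟨x, rfl⟩ := f.toNormalization.surjective z
  have hx : f x = y := by
    rw [← hz, ← Scheme.Hom.comp_apply, f.toNormalization_fromNormalization]
  refine QHomeo.univOpenAt_of_comp (f := f.toNormalization) ?_
  rw [f.toNormalization_fromNormalization]
  exact hop x hx

theorem exists_mem_of_one_le (g : X ⟶ Y) [LocallyQuasiFinite g] (z : Y)
    (h : 1 ≤ MoreMor.nGeomConnComp g z) : ∃ x, g x = z := by
  have h1 : 1 ≤ ENat.card (GPts g (acPt z)) := by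
    rwa [← nGeomConnComp_eq, acPt_apply]
  obtain ⟨a⟩ := (ENat.one_le_card_iff_nonempty _).1 h1
  exact ⟨a.1 (spt _), (Scheme.Hom.comp_apply _ _ _).symm.trans
    ((congrArg (fun m : _ ⟶ Y => m (spt _)) a.2).trans (acPt_apply z))⟩

theorem isLocallyConstructible_le_nGeomConnComp (n : ℕ) : ∀ {X Y : Scheme.{u}} (f : X ⟶ Y) [IsSeparated f]
    [LocallyQuasiFinite f] [LocallyOfFiniteType f] [QuasiCompact f] [IsLocallyNoetherian Y],
    IsLocallyConstructible {z | (n : ℕ∞) ≤ MoreMor.nGeomConnComp f z} := by
  induction n with
  | zero => intro X Y f _ _ _ _ _; simp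
  | succ n ih =>
    intro X Y f _ _ _ _ _
    haveI : IsLocallyNoetherian X := LocallyOfFiniteType.isLocallyNoetherian f
    haveI : IsLocallyNoetherian (pullback f f) :=
      LocallyOfFiniteType.isLocallyNoetherian (pullback.fst f f)
    haveI : LocallyOfFinitePresentation f := LocallyOfFinitePresentation.iff_locallyOfFiniteType.2 ‹_›
    convert! f.isLocallyConstructible_image (ih (offM f)) using 1
    ext z
    constructor
    · intro hz
      obtain ⟨x, rfl⟩ := exists_mem_of_one_le f z
        (le_trans (by exact_mod_cast Nat.le_add_left 1 n) hz)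
      refine ⟨x, ?_, rfl⟩
      rw [Set.mem_ofPred_eq, nGeomConnComp_succ, Nat.cast_add, Nat.cast_one] at hz
      exact (ENat.add_le_add_iff_right ENat.one_ne_top).1 hz
    · rintro ⟨x, hx, rfl⟩
      rw [Set.mem_ofPred_eq, nGeomConnComp_succ, Nat.cast_add, Nat.cast_one]
      exact add_le_add hx le_rfl

theorem lsc_of_proper [IsLocallyNoetherian Y] (f : X ⟶ Y) [IsProper f] (y : Y)
    (hop : ∀ x, f x = y → EGA43.IsUnivOpenAt f x) :
    {z | MoreMor.nGeomConnComp f y ≤ MoreMor.nGeomConnComp f z} ∈ nhds y := by
  haveI : IsFinite f.fromNormalization := S1297.result f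
  obtain ⟨n, hn⟩ := ENat.ne_top_iff_exists.1 (nGeomConnComp_lt_top f.fromNormalization y).ne
  simp only [nGeomConnComp_fromNormalization f, ← hn]
  exact le_nGeomConnComp_mem_nhds n f.fromNormalization y (univOpenAt_fromNormalization f y hop) hn.le

end Groth.Agent.H1Near
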