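import Groth.Agent.PnCoh.Chow.Exists
import Mathlib

/-!
# The map of Chow's construction to projective space is an immersion
-/

universe u

open CategoryTheory CategoryTheory.Limits AlgebraicGeometry TopologicalSpace Opposite MvPolynomial

noncomputable section

namespace Groth.Agent.H1Near

open Groth.Agent.PnCoh.Chow

/-- A ring map corestricted to its image. -/
def rangeRestrictHom {R S : CommRingCat.{u}} (g : R ⟶ S) : R ⟶ CommRingCat.of g.hom.range :=
  CommRingCat.ofHom g.hom.rangeRestrict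

theorem rangeRestrictHom_subtype {R S : CommRingCat.{u}} (g : R ⟶ S) :
    rangeRestrictHom g ≫ CommRingCat.ofHom g.hom.range.subtype = g :=
  CommRingCat.hom_ext (RingHom.ext fun _ => rfl)

variable {A : Type u} [CommRing A] {X : Scheme.{u}} {f : X ⟶ Spec (CommRingCat.of A)} (D : Data f)

/-- On a good chart the map to projective space is a closed immersion. -/
theorem isClosedImmersion_chart [IsSeparated f] (i : Fin D.m) (J : D.κ) (hJ : J i = 0) :
    IsClosedImmersion (D.p ∣_ Proj.basicOpen (CohB1.polyGrading D.N A) (D.T J)) := by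
  let q := CohB1.ProjSpace.toSpec D.N A
  let V : (CohB1.ProjSpace D.N A).Opens := Proj.basicOpen (CohB1.polyGrading D.N A) (D.T J)
  have hV : IsAffineOpen V := Proj.isAffineOpen_basicOpen _ _ (D.T_mem J) one_pos
  let O := D.O J
  have hOV : O ≤ D.p ⁻¹ᵁ V := le_rfl
  have hOU : O ≤ D.π ⁻¹ᵁ D.U i := D.O_le hJ
  let a := D.π.appLE (D.U i) O hOU
  let b := D.p.appLE V O hOV
  obtain ⟨φU, hφU⟩ := Spec.map_surjective ((D.hU i).fromSpec ≫ f)
  obtain ⟨φV, hφV⟩ := Spec.map_surjective (hV.fromSpec ≫ q)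
  let fU := (D.hU i).fromSpec ≫ f
  let fV := hV.fromSpec ≫ q
  have hcond : (O.toSpecΓ ≫ Spec.map a) ≫ fU = (O.toSpecΓ ≫ Spec.map b) ≫ fV := by
    rw [show (O.toSpecΓ ≫ Spec.map a) ≫ fU = (O.toSpecΓ ≫ Spec.map a ≫ (D.hU i).fromSpec) ≫ f by
        simp only [fU, Category.assoc],
      show (O.toSpecΓ ≫ Spec.map b) ≫ fV = (O.toSpecΓ ≫ Spec.map b ≫ hV.fromSpec) ≫ q by
        simp only [fV, Category.assoc],
      ← eq_toSpecΓ_fromSpec (D.hU i) D.π O hOU, ← eq_toSpecΓ_fromSpec hV D.p O hOV, Category.assoc,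
      Category.assoc, D.π_f]
  let c : O.toScheme ⟶ pullback fU fV := pullback.lift (O.toSpecΓ ≫ Spec.map a) (O.toSpecΓ ≫ Spec.map b) hcond
  let mp : pullback fU fV ⟶ pullback f q :=
    pullback.map fU fV f q (D.hU i).fromSpec hV.fromSpec (𝟙 _) (Category.comp_id _) (Category.comp_id _)
  have hc : c ≫ mp = O.ι ≫ D.ι := by
    apply pullback.hom_ext
    · rw [Category.assoc, pullback.lift_fst, ← Category.assoc, pullback.lift_fst, Category.assoc,
        ← eq_toSpecΓ_fromSpec (D.hU i) D.π O hOU, Category.assoc]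
      rfl
    · rw [Category.assoc, pullback.lift_snd, ← Category.assoc, pullback.lift_snd, Category.assoc,
        ← eq_toSpecΓ_fromSpec hV D.p O hOV, Category.assoc]
      rfl
  haveI : IsOpenImmersion mp := inferInstance
  haveI : IsPreimmersion (c ≫ mp) := by rw [hc]; infer_instance
  haveI : IsPreimmersion c := IsPreimmersion.of_comp c mp
  have hcl : IsClosed (Set.range c) := by
    have : Set.range c = mp ⁻¹' Set.range D.ι := by
      ext z
      constructor
      · rintro ⟨o, rfl⟩
        exact ⟨O.ι o, by rw [← Scheme.Hom.comp_apply, ← Scheme.Hom.comp_apply, hc]⟩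
      · rintro ⟨x, hx⟩
        have hxO : x ∈ O := by
          show D.p x ∈ V
          have : D.p x = hV.fromSpec ((pullback.snd fU fV) z) := by
            show (D.ι ≫ pullback.snd f q) x = _
            rw [Scheme.Hom.comp_apply, hx, ← Scheme.Hom.comp_apply, pullback.lift_snd, Scheme.Hom.comp_apply]
          rw [this]
          exact hV.range_fromSpec.le ⟨_, rfl⟩
        refine ⟨(⟨x, hxO⟩ : O.toScheme), mp.isOpenEmbedding.injective ?_⟩
        exact ((Scheme.Hom.comp_apply c mp _).symm.trans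
          (congrArg (fun φ : O.toScheme ⟶ pullback f q => φ ⟨x, hxO⟩) hc)).trans hx
    rw [this]
    exact D.ι.isClosedEmbedding.isClosed_range.preimage mp.continuous
  haveI : IsClosedImmersion c := IsClosedImmersion.of_isPreimmersion c hcl
  haveI : IsAffine O.toScheme := isAffine_of_isAffineHom c
  have hO : IsAffineOpen O := ‹_›
  have hiso : IsIso O.toSpecΓ := by
    rw [← hO.isoSpec_hom]; infer_instance
  let C := Γ(D.X', O)
  let Im : Subring C := b.hom.range
  have ha : ∀ z, a z ∈ Im := by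
    intro z
    obtain ⟨P, rfl⟩ := D.hgen i z
    induction P using MvPolynomial.induction_on with
    | C x =>
      rw [eval₂Hom_C]
      refine ⟨aHom q V x, ?_⟩
      show b.hom (aHom q V x) = a.hom (aHom f (D.U i) x)
      refine (congrArg (fun φ : A →+* _ => φ x) (aHom_comp q D.p V O hOV)).trans ?_
      refine Eq.trans ?_ (congrArg (fun φ : A →+* _ => φ x) (aHom_comp f D.π (D.U i) O hOU)).symm
      rw [D.π_f]
    | add p₁ p₂ h1 h2 => rw [map_add, map_add]; exact add_mem h1 h2
    | mul_X p₁ n h1 =>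
      rw [map_mul, map_mul]
      refine mul_mem h1 ?_
      rw [eval₂Hom_X']
      refine ⟨PnCoh.Finite.ratio (D.T_mem J) (D.T_mem (Function.update J i n.succ)), ?_⟩
      rw [show a (D.s i n) = D.r J (Function.update J i n.succ) from D.π_s hJ n]
      show D.p.appLE V O hOV _ = D.p.app V _
      rw [Scheme.Hom.app_eq_appLE]
  let incl : CommRingCat.of Im ⟶ C := CommRingCat.ofHom Im.subtype
  let a' : Γ(X, D.U i) ⟶ CommRingCat.of Im := CommRingCat.ofHom (a.hom.codRestrict Im ha)
  let b' : Γ(CohB1.ProjSpace D.N A, V) ⟶ CommRingCat.of Im :=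
    rangeRestrictHom b
  have hab : φU ≫ a = φV ≫ b := by
    apply Spec.map_injective
    rw [Spec.map_comp, Spec.map_comp, hφU, hφV, ← cancel_epi O.toSpecΓ, ← Category.assoc, ← Category.assoc]
    exact hcond
  have hab' : Spec.map a' ≫ fU = Spec.map b' ≫ fV := by
    rw [show fU = Spec.map φU from hφU.symm, show fV = Spec.map φV from hφV.symm, ← Spec.map_comp, ← Spec.map_comp]
    congr 1
    refine CommRingCat.hom_ext (RingHom.ext fun z => Subtype.ext ?_)
    have := ConcreteCategory.congr_hom hab z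
    exact this
  let m : Spec (CommRingCat.of Im) ⟶ pullback fU fV := pullback.lift (Spec.map a') (Spec.map b') hab'
  have hfac : Spec.map incl ≫ m = inv O.toSpecΓ ≫ c := by
    apply pullback.hom_ext
    · rw [Category.assoc, Category.assoc, pullback.lift_fst, pullback.lift_fst, IsIso.inv_hom_id_assoc,
        ← Spec.map_comp, show a' ≫ incl = a from CommRingCat.hom_ext (RingHom.ext fun _ => rfl)]
    · rw [Category.assoc, Category.assoc, pullback.lift_snd, pullback.lift_snd, IsIso.inv_hom_id_assoc,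
        ← Spec.map_comp, show b' ≫ incl = b from rangeRestrictHom_subtype b]
  haveI : IsClosedImmersion (Spec.map incl ≫ m) := by rw [hfac]; infer_instance
  haveI : IsClosedImmersion (Spec.map incl) := IsClosedImmersion.of_comp (Spec.map incl) m
  have hincl : Function.Surjective incl.hom := by
    have h := (IsClosedImmersion.isAffine_surjective_of_isAffine (Spec.map incl)).2
    intro z
    obtain ⟨w, hw⟩ := h ((Scheme.ΓSpecIso C).inv z)
    refine ⟨(Scheme.ΓSpecIso (CommRingCat.of Im)).hom w, ?_⟩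
    have h2 := ConcreteCategory.congr_hom (Scheme.ΓSpecIso_naturality incl) w
    simp only [CommRingCat.comp_apply] at h2
    rw [hw] at h2
    simpa using h2.symm
  have hb : Function.Surjective b.hom := fun z => by
    obtain ⟨⟨w, hw⟩, rfl⟩ := hincl z
    exact hw
  haveI : IsClosedImmersion (Spec.map b) := IsClosedImmersion.spec_of_surjective _ hb
  have hk : (D.p ∣_ V) ≫ hV.isoSpec.hom = O.toSpecΓ ≫ Spec.map b := by
    rw [← cancel_mono hV.fromSpec, Category.assoc, Category.assoc, ← eq_toSpecΓ_fromSpec hV D.p O hOV]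
    rw [hV.isoSpec_hom_fromSpec, morphismRestrict_ι]
  haveI : IsClosedImmersion ((D.p ∣_ V) ≫ hV.isoSpec.hom) := by rw [hk]; infer_instance
  show IsClosedImmersion (D.p ∣_ V)
  exact IsClosedImmersion.of_comp _ hV.isoSpec.hom

/-- The good charts. -/
def goodOpen : (CohB1.ProjSpace D.N A).Opens :=
  ⨆ J : {J : D.κ // ∃ i, J i = 0}, Proj.basicOpen (CohB1.polyGrading D.N A) (D.T J.1)

theorem preimage_goodOpen : D.p ⁻¹ᵁ goodOpen D = ⊤ := by
  rw [eq_top_iff]
  intro x _
  obtain ⟨i, J, hJ, hx⟩ := D.exists_good x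
  exact Opens.mem_iSup.2 ⟨⟨J, i, hJ⟩, hx⟩

theorem isClosedImmersion_restrict [IsSeparated f] : IsClosedImmersion (D.p ∣_ goodOpen D) := by
  let V : {J : D.κ // ∃ i, J i = 0} → (CohB1.ProjSpace D.N A).Opens :=
    fun J => Proj.basicOpen (CohB1.polyGrading D.N A) (D.T J.1)
  refine (IsZariskiLocalAtTarget.iff_of_iSup_eq_top (P := @IsClosedImmersion)
    (fun J => (goodOpen D).ι ⁻¹ᵁ V J) ?_).2 fun J => ?_
  · rw [eq_top_iff]
    rintro ⟨x, hx⟩ -
    obtain ⟨J, hJ⟩ := Opens.mem_iSup.1 hx
    exact Opens.mem_iSup.2 ⟨J, hJ⟩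
  · refine (MorphismProperty.arrow_mk_iso_iff @IsClosedImmersion
      (morphismRestrictRestrict D.p (goodOpen D) _)).2 ?_
    have hle : V J ≤ goodOpen D := le_iSup V J
    have e : (goodOpen D).ι ''ᵁ ((goodOpen D).ι ⁻¹ᵁ V J) = V J := by
      rw [Scheme.Hom.image_preimage_eq_opensRange_inf, Scheme.Opens.opensRange_ι, inf_eq_right.2 hle]
    obtain ⟨i, hi⟩ := J.2
    refine (MorphismProperty.arrow_mk_iso_iff @IsClosedImmersion (morphismRestrictEq D.p e)).2 ?_
    exact isClosedImmersion_chart D i J.1 hi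

/-- The boundary of the image. -/
theorem isClosed_boundary [IsSeparated f] : IsClosed (closure (Set.range D.p) \ Set.range D.p) := by
  haveI := isClosedImmersion_restrict D
  have hcl := (D.p ∣_ goodOpen D).isClosedEmbedding.isClosed_range
  have hsub : closure (Set.range D.p) \ Set.range D.p =
      closure (Set.range D.p) \ (goodOpen D : Set (CohB1.ProjSpace D.N A)) := by
    ext z
    refine and_congr_right fun hz => not_congr ⟨?_, fun hzW => ?_⟩
    · rintro ⟨x, rfl⟩
      have : x ∈ D.p ⁻¹ᵁ goodOpen D := by rw [preimage_goodOpen]; trivial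
      exact this
    · have hmem : (⟨z, hzW⟩ : (goodOpen D).toScheme) ∈ closure (Set.range (D.p ∣_ goodOpen D)) := by
        rw [(goodOpen D).ι.isOpenEmbedding.isInducing.closure_eq_preimage_closure_image]
        show z ∈ closure ((goodOpen D).ι '' Set.range (D.p ∣_ goodOpen D))
        refine closure_mono ?_ hz
        rintro _ ⟨x, rfl⟩
        have hx : x ∈ D.p ⁻¹ᵁ goodOpen D := by rw [preimage_goodOpen]; trivial
        refine ⟨(D.p ∣_ goodOpen D) ⟨x, hx⟩, ⟨_, rfl⟩, ?_⟩
        exact (Scheme.Hom.comp_apply _ _ _).symm.trans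
          (congrArg (fun φ : (D.p ⁻¹ᵁ goodOpen D).toScheme ⟶ _ => φ ⟨x, hx⟩)
            (morphismRestrict_ι D.p (goodOpen D)))
      rw [hcl.closure_eq] at hmem
      obtain ⟨x, hx⟩ := hmem
      refine ⟨(D.p ⁻¹ᵁ goodOpen D).ι x, ?_⟩
      rw [← Scheme.Hom.comp_apply, ← morphismRestrict_ι, Scheme.Hom.comp_apply, hx]
      rfl
  rw [hsub]
  exact isClosed_closure.sdiff (goodOpen D).2

/-- Where the boundary is missing, the map is a closed immersion. -/
theorem isClosedImmersion_of_disjoint [IsSeparated f] (W : (CohB1.ProjSpace D.N A).Opens)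
    (hW : ∀ b ∈ closure (Set.range D.p) \ Set.range D.p, b ∉ W) : IsClosedImmersion (D.p ∣_ W) := by
  haveI := isClosedImmersion_restrict D
  haveI : IsPreimmersion ((D.p ⁻¹ᵁ goodOpen D).ι ≫ D.p) := by
    rw [← morphismRestrict_ι]; infer_instance
  haveI : IsIso (D.p ⁻¹ᵁ goodOpen D).ι := by
    rw [preimage_goodOpen]; exact inferInstanceAs (IsIso (Scheme.topIso D.X').hom)
  haveI : IsPreimmersion D.p := by
    rw [show D.p = inv (D.p ⁻¹ᵁ goodOpen D).ι ≫ ((D.p ⁻¹ᵁ goodOpen D).ι ≫ D.p) from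
      (IsIso.inv_hom_id_assoc _ _).symm]
    exact IsPreimmersion.comp _ _
  haveI : IsPreimmersion ((D.p ∣_ W) ≫ W.ι) := by rw [morphismRestrict_ι]; infer_instance
  haveI : IsPreimmersion (D.p ∣_ W) := IsPreimmersion.of_comp (D.p ∣_ W) W.ι
  refine IsClosedImmersion.of_isPreimmersion _ ?_
  have : Set.range (D.p ∣_ W) = W.ι ⁻¹' closure (Set.range D.p) := by
    ext z
    constructor
    · rintro ⟨x, rfl⟩
      refine subset_closure ⟨(D.p ⁻¹ᵁ W).ι x, ?_⟩
      rw [← Scheme.Hom.comp_apply, ← Scheme.Hom.comp_apply, morphismRestrict_ι]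
    · intro hz
      by_cases h : W.ι z ∈ Set.range D.p
      · obtain ⟨x, hx⟩ := h
        have hxW : x ∈ D.p ⁻¹ᵁ W := show D.p x ∈ W by rw [hx]; exact z.2
        refine ⟨⟨x, hxW⟩, W.ι.isOpenEmbedding.injective ?_⟩
        exact ((Scheme.Hom.comp_apply _ _ _).symm.trans
          (congrArg (fun φ : (D.p ⁻¹ᵁ W).toScheme ⟶ _ => φ ⟨x, hxW⟩) (morphismRestrict_ι D.p W))).trans hx
      · exact (hW _ ⟨hz, h⟩ z.2).elim
  rw [this]
  exact isClosed_closure.preimage W.ι.continuous

end Groth.Agent.H1Near
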