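import Groth.Agent.H1Near.Main
import Groth.Agent.Proj16.DVRCrit
import Groth.Agent.H23.RedSub
import Groth.Agent.QCoh.Devissage
import Mathlib

/-!
# Properness of a closed subset near a point and discrete valuation rings
-/

universe u

open CategoryTheory CategoryTheory.Limits AlgebraicGeometry TopologicalSpace IsLocalRing

noncomputable section

namespace Groth.Agent.H1Near

lemma exists_desc {K : Type u} [Field K] {P : Scheme.{u}} (σ : Spec (CommRingCat.of K) ⟶ P) {x : P}
    (hx : σ (closedPoint K) = x) :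
    ∃ φ : P.residueField x ⟶ CommRingCat.of K, Spec.map φ ≫ P.fromSpecResidueField x = σ := by
  subst hx
  exact ⟨_, Scheme.descResidueField_stalkClosedPointTo_fromSpecResidueField K P σ⟩

lemma isIso_residueFieldMap_of_bijective {P S : Scheme.{u}} (s : P ⟶ S) (x : P)
    (h : Function.Bijective (s.residueFieldMap x).hom) : IsIso (s.residueFieldMap x) :=
  (ConcreteCategory.isIso_iff_bijective _).2 h

lemma hom_ext_of_bijective_residueFieldMap {K : Type u} [Field K] {P S : Scheme.{u}} (s : P ⟶ S) {x : P}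
    (hb : Function.Bijective (s.residueFieldMap x).hom) (σ₁ σ₂ : Spec (CommRingCat.of K) ⟶ P)
    (h₁ : σ₁ (closedPoint K) = x) (h₂ : σ₂ (closedPoint K) = x) (e : σ₁ ≫ s = σ₂ ≫ s) : σ₁ = σ₂ := by
  haveI := isIso_residueFieldMap_of_bijective s x hb
  obtain ⟨φ₁, rfl⟩ := exists_desc σ₁ h₁
  obtain ⟨φ₂, rfl⟩ := exists_desc σ₂ h₂
  rw [Category.assoc, Category.assoc, ← Scheme.Hom.SpecMap_residueFieldMap_fromSpecResidueField,
    ← Spec.map_comp_assoc, ← Spec.map_comp_assoc, cancel_mono] at e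
  rw [(cancel_epi (s.residueFieldMap x)).1 (Spec.map_injective e)]

lemma specMap_subtype_closedPoint {R : Type u} [CommRing R] [IsDomain R] {K : Type u} [Field K]
    (j : R →+* K) (hj : Function.Injective j) :
    Spec.map (CommRingCat.ofHom j) (closedPoint K) = genericPoint (Spec (CommRingCat.of R)) := by
  rw [genericPoint_eq_bot_of_affine]
  refine PrimeSpectrum.ext ?_
  show Ideal.comap j (maximalIdeal K) = ⊥
  rw [maximalIdeal_eq_bot, ← RingHom.ker_eq_comap_bot, (RingHom.injective_iff_ker_eq_bot j).1 hj]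

lemma surjective_of_fac {R : Type u} [CommRing R] [IsDomain R] {K : Type u} [Field K]
    (j : R →+* K) (hK : ∀ t : K, ∃ a b : R, t = j a / j b) {x : ↥(Spec (CommRingCat.of R))}
    (φ : (Spec (CommRingCat.of R)).residueField x ⟶ CommRingCat.of K)
    (e : Spec.map φ ≫ (Spec (CommRingCat.of R)).fromSpecResidueField x = Spec.map (CommRingCat.ofHom j)) :
    Function.Surjective φ.hom := by
  haveI : x.asIdeal.IsPrime := x.isPrime
  rw [← Scheme.Spec.map_residueFieldIso_inv_eq_fromSpecResidueField, ← Spec.map_comp, ← Spec.map_comp] at e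
  have h := Spec.map_injective e
  intro t
  obtain ⟨a, b, rfl⟩ := hK t
  let μ := CommRingCat.ofHom (algebraMap R x.asIdeal.ResidueField) ≫
    (Scheme.Spec.residueFieldIso (CommRingCat.of R) x).inv
  have hμ : ∀ r, φ.hom (μ.hom r) = j r := fun r => by
    rw [← CommRingCat.hom_ofHom j, ← h]
    rfl
  exact ⟨μ.hom a / μ.hom b, by rw [map_div₀, hμ, hμ]⟩

/-- The valuative existence property over an open. -/
def ExtendsOn {X Y : Scheme.{u}} (f : X ⟶ Y) (U : Y.Opens) : Prop :=
  ∀ (A : Type u) [CommRing A] [IsDomain A] [IsDiscreteValuationRing A]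
    (x : Spec (CommRingCat.of (FractionRing A)) ⟶ X) (g : Spec (CommRingCat.of A) ⟶ Y),
    Set.range g ⊆ (U : Set Y) → x ≫ f = Spec.map (CommRingCat.ofHom (algebraMap A (FractionRing A))) ≫ g →
    ∃ l : Spec (CommRingCat.of A) ⟶ X, l ≫ f = g ∧
      Spec.map (CommRingCat.ofHom (algebraMap A (FractionRing A))) ≫ l = x

lemma extendsOn_of_isProper {X Y : Scheme.{u}} (f : X ⟶ Y) (U : Y.Opens) [IsProper (f ∣_ U)] :
    ExtendsOn f U := by
  intro A _ _ _ x g hg w
  have hg' : Set.range g ⊆ Set.range U.ι := by rw [Scheme.Opens.range_ι]; exact hg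
  have hx : Set.range x ⊆ Set.range (f ⁻¹ᵁ U).ι := by
    rw [Scheme.Opens.range_ι]
    rintro _ ⟨z, rfl⟩
    show f (x z) ∈ U
    rw [← Scheme.Hom.comp_apply, w]
    exact hg ⟨_, rfl⟩
  obtain ⟨l, h1, h2⟩ := Proj16.dvrExistence_of_universallyClosed (f ∣_ U) A
    (IsOpenImmersion.lift (f ⁻¹ᵁ U).ι x hx) (IsOpenImmersion.lift U.ι g hg') (by
      rw [← cancel_mono U.ι, Category.assoc, Category.assoc, morphismRestrict_ι,
        IsOpenImmersion.lift_fac_assoc, IsOpenImmersion.lift_fac, w])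
  refine ⟨l ≫ (f ⁻¹ᵁ U).ι, ?_, ?_⟩
  · rw [Category.assoc, ← morphismRestrict_ι, reassoc_of% h1, IsOpenImmersion.lift_fac]
  · rw [reassoc_of% h2, IsOpenImmersion.lift_fac]

/-- The hypothesis of the criterion. -/
def DVRSections {X Y : Scheme.{u}} (f : X ⟶ Y) (Z : Set X) (y : Y) : Prop :=
  ∀ (A' : Type u) [CommRing A'] [IsDomain A'] [IsDiscreteValuationRing A'] (g : Spec (CommRingCat.of A') ⟶ Y),
    g.base (closedPoint A') = y →
    ∀ x' : ↥(pullback f g), (pullback.fst f g).base x' ∈ Z →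
      (pullback.snd f g).base x' = genericPoint (Spec (CommRingCat.of A')) →
      Function.Bijective ((pullback.snd f g).residueFieldMap x').hom →
      ∃ s : Spec (CommRingCat.of A') ⟶ pullback f g, s ≫ pullback.snd f g = 𝟙 _ ∧ x' ∈ Set.range s.base

lemma dvrCentres_of_dvrSections {X Y Xi : Scheme.{u}} {f : X ⟶ Y} {Z : Set X} {y : Y}
    (H : DVRSections f Z y) [IsIntegral Xi] (ι : Xi ⟶ X) [IsClosedImmersion ι]
    (hz : ι (genericPoint Xi) ∈ Z) {hξ : (ι ≫ f) (genericPoint Xi) ⤳ y} :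
    DVRCentres (ι ≫ f) hξ := by
  intro A hA hd
  let σ0 : Spec Xi.functionField ⟶ X := Xi.fromSpecStalk (genericPoint Xi) ≫ ι
  let sub : Spec (CommRingCat.of Xi.functionField) ⟶ Spec (CommRingCat.of A) :=
    Spec.map (CommRingCat.ofHom A.subtype)
  let g := Proj16.valMap A (Proj16.toFunctionField (ι ≫ f) hξ) hd.1
  have hgc : g (closedPoint A) = y := Proj16.valMap_closedPoint A _ hd.1
    fun a ha => (ValuationSubring.mem_nonunits_iff _).2 (hd.2 a ha)
  have hgen : sub ≫ g = σ0 ≫ f := by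
    refine (Proj16.valMap_generic A _ hd.1).trans ?_
    exact (Proj16.specMap_toFunctionField (ι ≫ f) hξ).trans (Category.assoc _ _ _).symm
  let σ : Spec (CommRingCat.of Xi.functionField) ⟶ pullback f g := pullback.lift σ0 sub hgen.symm
  have hσ1 : σ ≫ pullback.fst f g = σ0 := pullback.lift_fst _ _ _
  have hσ2 : σ ≫ pullback.snd f g = sub := pullback.lift_snd _ _ _
  let pt : ↥(Spec (CommRingCat.of Xi.functionField)) := closedPoint Xi.functionField
  have h0 : σ0 pt = ι (genericPoint Xi) :=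
    (Scheme.Hom.comp_apply _ _ _).trans (congrArg ι Scheme.fromSpecStalk_closedPoint)
  have hsub : sub pt = genericPoint (Spec (CommRingCat.of A)) :=
    specMap_subtype_closedPoint A.subtype Subtype.coe_injective
  let x' := σ pt
  have hx'1 : pullback.fst f g x' = ι (genericPoint Xi) :=
    ((Scheme.Hom.comp_apply σ _ pt).symm.trans (by rw [hσ1])).trans h0
  have hx'2 : pullback.snd f g x' = genericPoint (Spec (CommRingCat.of A)) :=
    ((Scheme.Hom.comp_apply σ _ pt).symm.trans (by rw [hσ2])).trans hsub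
  have hb : Function.Bijective ((pullback.snd f g).residueFieldMap x').hom := by
    refine ⟨RingHom.injective _, ?_⟩
    obtain ⟨φ, hφ⟩ := exists_desc σ (rfl : σ pt = x')
    have hs : Function.Surjective (((pullback.snd f g).residueFieldMap x') ≫ φ).hom := by
      refine surjective_of_fac A.subtype (fun t => ?_) _ ?_
      · obtain ⟨a, b, -, h⟩ := IsFractionRing.div_surjective (A := A) t
        exact ⟨a, b, h.symm⟩
      · rw [Spec.map_comp, Category.assoc, Scheme.Hom.SpecMap_residueFieldMap_fromSpecResidueField,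
          ← Category.assoc, hφ, hσ2]
    intro t
    obtain ⟨c, hc⟩ := hs (φ.hom t)
    exact ⟨c, RingHom.injective φ.hom hc⟩
  obtain ⟨s, hs, a, ha⟩ := H A g hgc x' (by rw [hx'1]; exact hz) hx'2 hb
  have ha' : a = genericPoint (Spec (CommRingCat.of A)) := by
    have h := congrArg (fun φ : Spec (CommRingCat.of A) ⟶ Spec (CommRingCat.of A) => φ a) hs
    simp only [Scheme.Hom.comp_apply, ha, hx'2] at h
    exact h.symm
  have hσ' : sub ≫ s = σ := by
    refine hom_ext_of_bijective_residueFieldMap (pullback.snd f g) hb _ _ ?_ rfl ?_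
    · exact (Scheme.Hom.comp_apply _ _ _).trans ((congrArg s (hsub.trans ha'.symm)).trans ha)
    · rw [Category.assoc, hs, Category.comp_id, hσ2]
  let l := s ≫ pullback.fst f g
  have hl : l ≫ f = g := by
    rw [Category.assoc, pullback.condition, reassoc_of% hs]
  have hlg : sub ≫ l = σ0 := by rw [← Category.assoc, hσ', hσ1]
  have hr : Set.range l ⊆ Set.range ι := by
    rintro _ ⟨w, rfl⟩
    have h1 : genericPoint (Spec (CommRingCat.of A)) ⤳ w := genericPoint_specializes w
    have h2 := h1.map l.continuous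
    rw [← hsub, ← Scheme.Hom.comp_apply, hlg, h0] at h2
    exact h2.mem_closed ι.isClosedEmbedding.isClosed_range ⟨_, rfl⟩
  obtain ⟨li, hli⟩ := H23.RedSub.exists_lift_closed l ι hr
  refine ⟨li (closedPoint A), ?_, Proj16.isCentre_of_lift A li ?_⟩
  · have e : li ≫ ι ≫ f = g := by rw [reassoc_of% hli]; exact hl
    exact ((Scheme.Hom.comp_apply _ _ _).symm.trans
      (congrArg (fun φ : Spec (CommRingCat.of A) ⟶ Y => φ (closedPoint A)) e)).trans hgc
  · rw [← cancel_mono ι, Category.assoc, hli]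
    exact hlg

theorem dvrSections_of_isProper {X Y : Scheme.{u}} (f : X ⟶ Y) (Z : Set X) (y : Y) (U : Y.Opens)
    (hy : y ∈ U) {C : Scheme.{u}} (j : C ⟶ (f ⁻¹ᵁ U).toScheme) [IsClosedImmersion j]
    (hj : (f ⁻¹ᵁ U).ι ⁻¹' Z ⊆ Set.range j) [IsProper (j ≫ (f ∣_ U))] : DVRSections f Z y := by
  intro A _ _ _ g hgc x' hx'Z hx'2 hb
  let m : Spec (CommRingCat.of (FractionRing A)) ⟶ Spec (CommRingCat.of A) :=
    Spec.map (CommRingCat.ofHom (algebraMap A (FractionRing A)))
  let pt : ↥(Spec (CommRingCat.of (FractionRing A))) := closedPoint (FractionRing A)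
  have hm : m pt = pullback.snd f g x' :=
    (specMap_subtype_closedPoint _ (IsFractionRing.injective A (FractionRing A))).trans hx'2.symm
  obtain ⟨φ, hφ⟩ := exists_desc m hm
  haveI := isIso_residueFieldMap_of_bijective (pullback.snd f g) x' hb
  let τ : Spec (CommRingCat.of (FractionRing A)) ⟶ pullback f g :=
    Spec.map (inv ((pullback.snd f g).residueFieldMap x') ≫ φ) ≫ (pullback f g).fromSpecResidueField x'
  have hτ : τ pt = x' := (Scheme.Hom.comp_apply _ _ _).trans (Scheme.fromSpecResidueField_apply _ _)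
  have hτ2 : τ ≫ pullback.snd f g = m := by
    rw [Category.assoc, ← Scheme.Hom.SpecMap_residueFieldMap_fromSpecResidueField,
      ← Spec.map_comp_assoc, IsIso.hom_inv_id_assoc, hφ]
  have hgU := range_subset_of_closedPoint (R := CommRingCat.of A) g U (by rw [hgc]; exact hy)
  let g' := IsOpenImmersion.lift U.ι g hgU
  let σ0 := τ ≫ pullback.fst f g
  have hσ0 : σ0 ≫ f = m ≫ g := by
    rw [Category.assoc, pullback.condition, reassoc_of% hτ2]
  have hr : Set.range σ0 ⊆ Set.range (f ⁻¹ᵁ U).ι := by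
    rintro _ ⟨w, rfl⟩
    rw [Scheme.Opens.range_ι]
    show f (σ0 w) ∈ U
    rw [← Scheme.Hom.comp_apply, hσ0, Scheme.Hom.comp_apply]
    have := hgU ⟨m w, rfl⟩
    rwa [Scheme.Opens.range_ι] at this
  let σ1 := IsOpenImmersion.lift (f ⁻¹ᵁ U).ι σ0 hr
  obtain ⟨σ2, hσ2⟩ := H23.RedSub.exists_lift_closed σ1 j (by
    rintro _ ⟨w, rfl⟩
    refine hj ?_
    show (f ⁻¹ᵁ U).ι (σ1 w) ∈ Z
    rw [← Scheme.Hom.comp_apply, IsOpenImmersion.lift_fac, Scheme.Hom.comp_apply,
      show w = pt from Subsingleton.elim _ _, hτ]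
    exact hx'Z)
  obtain ⟨l, hl1, hl2⟩ := Proj16.dvrExistence_of_universallyClosed (j ≫ (f ∣_ U)) A σ2 g' (by
    rw [← cancel_mono U.ι, Category.assoc, Category.assoc, morphismRestrict_ι, reassoc_of% hσ2,
      IsOpenImmersion.lift_fac_assoc, hσ0, Category.assoc, IsOpenImmersion.lift_fac])
  have hl : (l ≫ j ≫ (f ⁻¹ᵁ U).ι) ≫ f = g := by
    rw [Category.assoc, Category.assoc, ← morphismRestrict_ι, ← Category.assoc j, ← Category.assoc l, hl1,
      IsOpenImmersion.lift_fac]
  let s := pullback.lift (l ≫ j ≫ (f ⁻¹ᵁ U).ι) (𝟙 _) (by rw [hl, Category.id_comp])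
  have hms : m ≫ s = τ := by
    apply pullback.hom_ext
    · rw [Category.assoc, pullback.lift_fst, reassoc_of% hl2, reassoc_of% hσ2, IsOpenImmersion.lift_fac]
    · rw [Category.assoc, pullback.lift_snd, Category.comp_id, hτ2]
  refine ⟨s, pullback.lift_snd _ _ _, m pt, ?_⟩
  rw [← Scheme.Hom.comp_apply, hms, hτ]

theorem exists_proper_of_dvrSections {X Y : Scheme.{u}} [IsNoetherian Y] (f : X ⟶ Y) [IsSeparated f]
    [LocallyOfFiniteType f] [QuasiCompact f] (Z : Set X)
    (hZ : ∀ z ∈ closure Z, (∀ z' ∈ closure Z, z ∈ closure {z'} → z' = z) → z ∈ Z) (y : Y)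
    (H : DVRSections f Z y) :
    ∃ U : Y.Opens, y ∈ U ∧ ∃ hC : IsClosed ((f ⁻¹ᵁ U).ι.base ⁻¹' closure Z),
      IsProper ((Scheme.IdealSheafData.vanishingIdeal
        (⟨(f ⁻¹ᵁ U).ι.base ⁻¹' closure Z, hC⟩ : TopologicalSpace.Closeds ↥(f ⁻¹ᵁ U))).subschemeι ≫ (f ∣_ U)) := by
  haveI : CompactSpace X := QuasiCompact.compactSpace_of_compactSpace f
  haveI : IsLocallyNoetherian X := LocallyOfFiniteType.isLocallyNoetherian f
  haveI : IsNoetherian X := {}
  let ιC := (Scheme.IdealSheafData.vanishingIdeal (Closeds.closure Z)).subschemeι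
  let Cs := (Scheme.IdealSheafData.vanishingIdeal (Closeds.closure Z)).subscheme
  have hrC : Set.range ιC = closure Z := H23.RedSub.range_vanishingIdeal _
  haveI : NoetherianSpace Cs := ιC.isClosedEmbedding.isInducing.noetherianSpace
  haveI : Finite (genericPoints Cs) :=
    (genericPoints.finite NoetherianSpace.finite_irreducibleComponents).to_subtype
  have hpt : ∀ ζ : genericPoints Cs, ∃ (U : Y.Opens), y ∈ U ∧ ∃ (Xi : Scheme.{u}) (ι : Xi ⟶ X),
      IsClosedImmersion ι ∧ ExtendsOn (ι ≫ f) U ∧ Set.range ι = closure {ιC ζ.1} := by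
    intro ζ
    have hzC : ιC ζ.1 ∈ closure Z := hrC ▸ ⟨_, rfl⟩
    have hzZ : ιC ζ.1 ∈ Z := by
      refine hZ _ hzC fun z' hz' hspec => ?_
      obtain ⟨c, rfl⟩ : z' ∈ Set.range ιC := hrC ▸ hz'
      have h1 : c ⤳ ζ.1 :=
        ιC.isClosedEmbedding.isInducing.specializes_iff.1 (specializes_iff_mem_closure.2 hspec)
      have h2 : closure {c} ⊆ closure {ζ.1} :=
        ζ.2.2 isIrreducible_singleton.closure h1.closure_subset
      exact congrArg ιC ((specializes_iff_mem_closure.2 (h2 (subset_closure rfl))).antisymm h1).eq.symm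
    let Xi := (Scheme.IdealSheafData.vanishingIdeal (Closeds.closure {ιC ζ.1})).subscheme
    let ι : Xi ⟶ X := (Scheme.IdealSheafData.vanishingIdeal (Closeds.closure {ιC ζ.1})).subschemeι
    haveI : IsIntegral Xi := QCoh.isIntegral_closure_point (ιC ζ.1)
    have hr : Set.range ι = closure {ιC ζ.1} := H23.RedSub.range_vanishingIdeal _
    have hgen : ι (genericPoint Xi) = ιC ζ.1 := by
      have h1 := (genericPoint_spec Xi).image ι.continuous
      rw [Set.image_univ, hr, closure_closure] at h1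
      exact h1.eq isGenericPoint_closure
    by_cases hξ : (ι ≫ f) (genericPoint Xi) ⤳ y
    · obtain ⟨U, hyU, hU⟩ := exists_isProper_nhd (ι ≫ f) (hξ := hξ)
        (dvrCentres_of_dvrSections (f := f) H ι (by rw [hgen]; exact hzZ))
      exact ⟨U, hyU, Xi, ι, inferInstance, extendsOn_of_isProper _ U, hr⟩
    · refine ⟨⟨(closure {(ι ≫ f) (genericPoint Xi)})ᶜ, isClosed_closure.isOpen_compl⟩,
        fun h => hξ (specializes_iff_mem_closure.2 h), Xi, ι, inferInstance, ?_, hr⟩
      intro A _ _ _ x g hg w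
      exfalso
      let pt : ↥(Spec (CommRingCat.of (FractionRing A))) := closedPoint (FractionRing A)
      refine hg ⟨_, rfl⟩ (specializes_iff_mem_closure.1 ?_ :
        g (Spec.map (CommRingCat.ofHom (algebraMap A (FractionRing A))) pt) ∈ _)
      rw [← Scheme.Hom.comp_apply, ← w, Scheme.Hom.comp_apply]
      exact (genericPoint_specializes _).map (ι ≫ f).continuous
  choose U hyU Xi ι hι hext hr using hpt
  let U' : Y.Opens := ⟨⋂ ζ, (U ζ : Set Y), isOpen_iInter_of_finite fun ζ => (U ζ).2⟩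
  refine ⟨U', Set.mem_iInter.2 hyU, isClosed_closure.preimage (f ⁻¹ᵁ U').ι.continuous, ?_⟩
  let V : Closeds ↥(f ⁻¹ᵁ U').toScheme :=
    ⟨(f ⁻¹ᵁ U').ι.base ⁻¹' closure Z, isClosed_closure.preimage (f ⁻¹ᵁ U').ι.continuous⟩
  let j := (Scheme.IdealSheafData.vanishingIdeal V).subschemeι
  have hrj : Set.range j = (f ⁻¹ᵁ U').ι ⁻¹' closure Z := H23.RedSub.range_vanishingIdeal _
  show IsProper (j ≫ (f ∣_ U'))
  haveI : IsSeparated (f ∣_ U') := MorphismProperty.of_isPullback (isPullback_morphismRestrict f U').flip inferInstance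
  haveI : LocallyOfFiniteType (f ∣_ U') :=
    MorphismProperty.of_isPullback (isPullback_morphismRestrict f U').flip inferInstance
  haveI : QuasiCompact (f ∣_ U') := MorphismProperty.of_isPullback (isPullback_morphismRestrict f U').flip inferInstance
  haveI : LocallyOfFiniteType (j ≫ (f ∣_ U')) :=
    MorphismProperty.comp_mem @LocallyOfFiniteType _ _ inferInstance inferInstance
  haveI : IsLocallyNoetherian U'.toScheme := LocallyOfFiniteType.isLocallyNoetherian U'.ι
  refine Proj16.isProper_of_dvr _ ?_ (Proj16.dvrUniqueness_of_isSeparated _)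
  intro A _ _ _ x g w
  let x0 : Spec (CommRingCat.of (FractionRing A)) ⟶ X := x ≫ j ≫ (f ⁻¹ᵁ U').ι
  let pt : ↥(Spec (CommRingCat.of (FractionRing A))) := closedPoint (FractionRing A)
  have hx0 : x0 pt ∈ closure Z := by
    have : j (x pt) ∈ (f ⁻¹ᵁ U').ι ⁻¹' closure Z := hrj ▸ ⟨_, rfl⟩
    exact this
  obtain ⟨c, hc⟩ : x0 pt ∈ Set.range ιC := hrC ▸ hx0
  let ζ := genericPoints.ofComponent ⟨_, irreducibleComponent_mem_irreducibleComponents c⟩
  have hζ : ζ.1 ⤳ c := (genericPoints.isGenericPoint_ofComponent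
    ⟨_, irreducibleComponent_mem_irreducibleComponents c⟩).specializes mem_irreducibleComponent
  haveI := hι ζ
  have hxr : Set.range x0 ⊆ Set.range (ι ζ) := by
    rintro _ ⟨w, rfl⟩
    rw [hr ζ, show w = pt from Subsingleton.elim _ _, ← hc]
    exact (hζ.map ιC.continuous).mem_closure
  obtain ⟨xi, hxi⟩ := H23.RedSub.exists_lift_closed x0 (ι ζ) hxr
  have hgU : Set.range (g ≫ U'.ι) ⊆ (U ζ : Set Y) := by
    rintro _ ⟨w, rfl⟩
    exact Set.mem_iInter.1 (g w).2 ζ
  obtain ⟨l, hl1, hl2⟩ := hext ζ A xi (g ≫ U'.ι) hgU (by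
    rw [← Category.assoc, hxi, ← Category.assoc, ← w]
    simp only [x0, Category.assoc, morphismRestrict_ι])
  have hlf : (l ≫ ι ζ) ≫ f = g ≫ U'.ι := by rw [Category.assoc, hl1]
  have hlr : Set.range (l ≫ ι ζ) ⊆ Set.range (f ⁻¹ᵁ U').ι := by
    rintro _ ⟨w, rfl⟩
    rw [Scheme.Opens.range_ι]
    show f ((l ≫ ι ζ) w) ∈ U'
    rw [← Scheme.Hom.comp_apply, hlf]
    exact (g w).2
  obtain ⟨l', hl'⟩ := H23.RedSub.exists_lift_closed (IsOpenImmersion.lift (f ⁻¹ᵁ U').ι (l ≫ ι ζ) hlr) j (by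
    rintro _ ⟨w, rfl⟩
    rw [hrj]
    show (f ⁻¹ᵁ U').ι (IsOpenImmersion.lift _ _ hlr w) ∈ closure Z
    rw [← Scheme.Hom.comp_apply, IsOpenImmersion.lift_fac, Scheme.Hom.comp_apply]
    have h1 : ι ζ (l w) ∈ closure {ιC ζ.1} := hr ζ ▸ ⟨_, rfl⟩
    exact closure_minimal (Set.singleton_subset_iff.2 (hrC ▸ ⟨_, rfl⟩)) isClosed_closure h1)
  refine ⟨l', ?_, ?_⟩
  · rw [← cancel_mono U'.ι, Category.assoc, Category.assoc, morphismRestrict_ι, reassoc_of% hl',
      IsOpenImmersion.lift_fac_assoc, hlf]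
  · rw [← cancel_mono j, ← cancel_mono (f ⁻¹ᵁ U').ι]
    simp only [Category.assoc]
    rw [reassoc_of% hl', IsOpenImmersion.lift_fac, reassoc_of% hl2, hxi]

end Groth.Agent.H1Near
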