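import Groth.Agent.H1Near.Closure
import Groth.Agent.FDescent.QuasiFlat
import Mathlib

/-!
# Valuative criteria with a dense quasi-compact source
-/

universe u

open CategoryTheory CategoryTheory.Limits AlgebraicGeometry IsLocalRing

noncomputable section

namespace Groth.Agent.H1Near

/-- The closed point, as a point of the spectrum. -/
abbrev cpt (R : Type u) [CommRing R] [IsLocalRing R] : ↥(Spec (CommRingCat.of R)) := closedPoint R

/-- Maps from a local domain with the same closed point and the same generic point are equal. -/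
lemma hom_ext_local_domain {R : Type u} [CommRing R] [IsLocalRing R] {L : Type u} [Field L] (j : R →+* L)
    (hj : Function.Injective j) {Y : Scheme.{u}} (h₁ h₂ : Spec (CommRingCat.of R) ⟶ Y)
    (hc : h₁ (cpt R) = h₂ (cpt R))
    (hg : Spec.map (CommRingCat.ofHom j) ≫ h₁ = Spec.map (CommRingCat.ofHom j) ≫ h₂) : h₁ = h₂ := by
  haveI : IsDomain R := hj.isDomain j
  obtain ⟨_, ⟨(U : Y.Opens), hU, rfl⟩, hyU, -⟩ :=
    Y.isBasis_affineOpens.exists_subset_of_mem_open (Set.mem_univ (h₁ (cpt R))) isOpen_univ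
  haveI : IsAffine U.toScheme := hU
  haveI := Proj16.specMap_isDominant (CommRingCat.ofHom j) hj
  have r₁ := range_subset_of_closedPoint h₁ U hyU
  have r₂ := range_subset_of_closedPoint h₂ U (hc ▸ hyU)
  rw [← IsOpenImmersion.lift_fac U.ι h₁ r₁, ← IsOpenImmersion.lift_fac U.ι h₂ r₂]
  congr 1
  refine ext_of_isDominant (Spec.map (CommRingCat.ofHom j)) ?_
  rw [← cancel_mono U.ι, Category.assoc, Category.assoc, IsOpenImmersion.lift_fac, IsOpenImmersion.lift_fac]
  exact hg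

lemma comp_eq_of_specMap {A B B' C : CommRingCat.{u}} {W : Scheme.{u}} (π : Spec A ⟶ W) [Mono π]
    (a : A ⟶ B) (b : B ⟶ C) (a' : A ⟶ B') (b' : B' ⟶ C)
    (e : Spec.map b ≫ Spec.map a ≫ π = Spec.map b' ≫ Spec.map a' ≫ π) : a ≫ b = a' ≫ b' := by
  refine Spec.map_injective ((cancel_mono π).mp ?_)
  rw [Spec.map_comp, Spec.map_comp, Category.assoc, Category.assoc]
  exact e

variable {Z Y : Scheme.{u}} {h : Z ⟶ Y} {z : Z} {y₀ : Y} (hsp : h z ⤳ y₀)
  {R' : Type u} [CommRing R'] [IsDomain R'] [ValuationRing R'] {K : Type u} [Field K] [Algebra R' K]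
  [IsFractionRing R' K] (i : Y.residueField y₀ ⟶ CommRingCat.of K)

include hsp in
/-- A valuation ring of `κ(z)` refining one at `y₀` by a valuation ring on the residue field of `y₀`. -/
theorem exists_refinement :
    ∃ (R R₁ : ValuationSubring (Z.residueField z)) (hle : R ≤ R₁),
      (∀ (W : Scheme.{u}) (u : Y ⟶ W) (w : W) (hw : u y₀ ⤳ w) (t : W.presheaf.stalk w ⟶ CommRingCat.of R'),
        IsLocalHom t.hom →
        Proj16.specMapResidue hw ≫ i = t ≫ CommRingCat.ofHom (algebraMap R' K) →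
        ∃ G : Spec (CommRingCat.of R) ⟶ W, G (cpt R) = w ∧
          Spec.map (CommRingCat.ofHom R.subtype) ≫ G = Z.fromSpecResidueField z ≫ h ≫ u) ∧
      ∃ l₁ : Spec (CommRingCat.of R₁) ⟶ Y, l₁ (cpt R₁) = y₀ ∧
        Spec.map (CommRingCat.ofHom R₁.subtype) ≫ l₁ = Z.fromSpecResidueField z ≫ h ∧
        ∀ G : Spec (CommRingCat.of R) ⟶ Y,
          Spec.map (CommRingCat.ofHom R.subtype) ≫ G = Z.fromSpecResidueField z ≫ h →
          Spec.map (CommRingCat.ofHom (Subring.inclusion hle)) ≫ G = l₁ →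
          ∀ (hs : y₀ ⤳ G (cpt R)) (a : Y.presheaf.stalk (G (cpt R))),
            i.hom ((Y.residue y₀).hom ((Y.presheaf.stalkSpecializes hs).hom a)) ∈ (algebraMap R' K).range := by
  let φ : Y.presheaf.stalk y₀ ⟶ Z.residueField z := Proj16.specMapResidue hsp
  have hφspec : Spec.map φ ≫ Y.fromSpecStalk y₀ = Z.fromSpecResidueField z ≫ h :=
    Proj16.specMapResidue_fromSpecStalk hsp
  obtain ⟨R₁, hR₁, hloc₁⟩ := exists_factor_valuationRing φ.hom
  let g₁ : Y.presheaf.stalk y₀ →+* R₁ := φ.hom.codRestrict R₁.toSubring hR₁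
  haveI : IsLocalHom g₁ := hloc₁
  let ψ : Y.residueField y₀ →+* ResidueField R₁ := ResidueField.map g₁
  have hψ : ∀ a, ψ ((Y.residue y₀).hom a) = residue R₁ (g₁ a) := fun a ↦ rfl
  let V' : ValuationSubring K := ValuationSubring.ofSubring (algebraMap R' K).range fun z ↦
    (ValuationRing.isInteger_or_isInteger R' z).imp id id
  let A : ValuationSubring (Y.residueField y₀) := V'.comap i.hom
  obtain ⟨A₁, hA₁, hlocA⟩ := exists_factor_valuationRing (ψ.comp A.subtype)
  have hA : ∀ a, ψ a ∈ A₁ → a ∈ A := by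
    intro a ha
    by_contra haA
    have hinv : a⁻¹ ∈ A := (A.mem_or_inv_mem a).resolve_left haA
    have ha0 : a ≠ 0 := fun h ↦ haA (h ▸ A.zero_mem)
    have hu : IsUnit (⟨a⁻¹, hinv⟩ : A) := hlocA.map_nonunit _ (by
      refine IsUnit.of_mul_eq_one ⟨ψ a, ha⟩ (Subtype.ext ?_)
      change ψ a⁻¹ * ψ a = 1
      rw [← map_mul, inv_mul_cancel₀ ha0, map_one])
    obtain ⟨⟨b, hb⟩, hab⟩ := hu.exists_right_inv
    have hab' : a⁻¹ * b = 1 := congrArg Subtype.val hab
    rw [eq_inv_of_mul_eq_one_right hab', inv_inv] at hb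
    exact haA hb
  -- the composite valuation ring
  let R : ValuationSubring (Z.residueField z) :=
    { ((A₁.toSubring.comap (residue R₁)).map R₁.subtype) with
      mem_or_inv_mem' := fun t ↦ by
        have key : ∀ t : Z.residueField z, t⁻¹ ∉ R₁ →
            ∃ r : R₁, residue R₁ r ∈ A₁ ∧ R₁.subtype r = t := fun t ht ↦ by
          have ht' : t ∈ R₁.nonunits := by
            rw [← inv_inv t]
            exact R₁.inv_mem_nonunits_iff.mpr (Or.inr ht)
          refine ⟨⟨t, R₁.nonunits_subset ht'⟩, ?_, rfl⟩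
          rw [(residue_eq_zero_iff _).mpr]
          · exact A₁.zero_mem
          · exact (ValuationSubring.coe_mem_nonunits_iff (a := ⟨t, R₁.nonunits_subset ht'⟩)).mp ht'
        simp only [Subring.mem_carrier, Subring.mem_map, Subring.mem_comap]
        by_cases h1 : t⁻¹ ∈ R₁
        · by_cases h2 : t ∈ R₁
          · rcases A₁.mem_or_inv_mem (residue R₁ ⟨t, h2⟩) with h | h
            · exact Or.inl ⟨⟨t, h2⟩, h, rfl⟩
            · refine Or.inr ⟨⟨t⁻¹, h1⟩, ?_, rfl⟩
              rcases eq_or_ne t 0 with rfl | ht0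
              · simp only [inv_zero] at *
                exact A₁.zero_mem
              suffices hh : residue R₁ ⟨t⁻¹, h1⟩ = (residue R₁ ⟨t, h2⟩)⁻¹ from hh ▸ h
              refine eq_inv_of_mul_eq_one_right ?_
              rw [← map_mul, show (⟨t, h2⟩ : R₁) * ⟨t⁻¹, h1⟩ = 1 from
                Subtype.ext (mul_inv_cancel₀ ht0), map_one]
          · refine Or.inr ?_
            obtain ⟨r, hr, hr'⟩ := key t⁻¹ (by rwa [inv_inv])
            exact ⟨r, hr, hr'⟩
        · obtain ⟨r, hr, hr'⟩ := key t h1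
          exact Or.inl ⟨r, hr, hr'⟩ }
  have hRiff : ∀ r : R₁, (r : Z.residueField z) ∈ R ↔ residue R₁ r ∈ A₁ := fun r ↦ by
    refine ⟨?_, fun h ↦ ⟨r, h, rfl⟩⟩
    rintro ⟨r', h, e⟩
    rwa [show r' = r from Subtype.ext e] at h
  have hsub : R ≤ R₁ := by
    rintro _ ⟨r, -, rfl⟩
    exact r.2
  have hRx : ∀ a, φ.hom a ∈ R ↔ (Y.residue y₀).hom a ∈ A := fun a ↦ by
    rw [show φ.hom a = ((g₁ a : R₁) : Z.residueField z) from rfl, hRiff, ← hψ]
    exact ⟨hA _, fun h ↦ hA₁ ⟨_, h⟩⟩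
  refine ⟨R, R₁, hsub, fun W u w hw t ht hti => ?_, Proj16.valMap R₁ φ hR₁,
    Proj16.valMap_closedPoint R₁ φ hR₁ fun a ha => ?_, (Proj16.valMap_generic R₁ φ hR₁).trans hφspec,
    fun G hG hι hs a => ?_⟩
  · -- lifts to `W`
    let β : W.presheaf.stalk w ⟶ Y.presheaf.stalk y₀ := W.presheaf.stalkSpecializes hw ≫ u.stalkMap y₀
    have hcA : ∀ a, (Y.residue y₀).hom (β.hom a) ∈ A := fun a => ValuationSubring.mem_comap.mpr <|
      (ValuationSubring.mem_ofSubring _ _ _).mpr ⟨t.hom a, (ConcreteCategory.congr_hom hti a).symm⟩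
    let Φ : W.presheaf.stalk w ⟶ CommRingCat.of (Z.residueField z) := β ≫ φ
    have hΦ : ∀ a, Φ.hom a ∈ R := fun a => (hRx _).mpr (hcA a)
    refine ⟨Proj16.valMap R Φ hΦ, Proj16.valMap_closedPoint R Φ hΦ fun a ha => ?_, ?_⟩
    · rw [show Φ.hom a = ((⟨_, hΦ a⟩ : R) : Z.residueField z) from rfl,
        ValuationSubring.coe_mem_nonunits_iff]
      intro hu
      obtain ⟨⟨b, hb⟩, hab⟩ := hu.exists_right_inv
      refine (mem_maximalIdeal a).mp ha (ht.map_nonunit a ?_)
      have hub : g₁ (β.hom a) * ⟨b, hsub hb⟩ = 1 := Subtype.ext (congrArg Subtype.val hab :)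
      have hres : ψ ((Y.residue y₀).hom (β.hom a)) * residue R₁ ⟨b, hsub hb⟩ = 1 := by
        rw [hψ, ← map_mul, hub, map_one]
      have hbA : residue R₁ ⟨b, hsub hb⟩ ∈ A₁ := (hRiff ⟨b, hsub hb⟩).mp hb
      have hu' : IsUnit (⟨_, hcA a⟩ : A) := hlocA.map_nonunit _
        (IsUnit.of_mul_eq_one ⟨_, hbA⟩ (Subtype.ext hres))
      obtain ⟨⟨c, s, hs⟩, hc⟩ := hu'.exists_right_inv
      refine IsUnit.of_mul_eq_one s (IsFractionRing.injective R' K ?_)
      have hc' : (Y.residue y₀).hom (β.hom a) * c = 1 := congrArg Subtype.val hc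
      have hs' : algebraMap R' K s = i.hom c := hs
      rw [map_mul, map_one, hs', show algebraMap R' K (t.hom a) = i.hom ((Y.residue y₀).hom (β.hom a)) from
        (ConcreteCategory.congr_hom hti a).symm, ← map_mul, hc', map_one]
    · refine (Proj16.valMap_generic R Φ hΦ).trans ?_
      rw [show Spec.map Φ = Spec.map φ ≫ Spec.map β from Spec.map_comp _ _, Category.assoc,
        show Spec.map β ≫ W.fromSpecStalk w = Y.fromSpecStalk y₀ ≫ u by
          rw [Spec.map_comp, Category.assoc, Scheme.SpecMap_stalkSpecializes_fromSpecStalk,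
            Scheme.SpecMap_stalkMap_fromSpecStalk],
        ← Category.assoc, hφspec, Category.assoc]
  · rw [show φ.hom a = ((g₁ a : R₁) : Z.residueField z) from rfl, ValuationSubring.coe_mem_nonunits_iff]
    exact fun h => ha (hloc₁.map_nonunit a h)
  · -- values in `R'`
    let ρ := Scheme.stalkClosedPointTo G
    have hρ : ρ ≫ CommRingCat.ofHom (Subring.inclusion hsub) =
        Y.presheaf.stalkSpecializes hs ≫ CommRingCat.ofHom g₁ := by
      refine comp_eq_of_specMap (Y.fromSpecStalk _) _ _ _ _ ?_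
      refine Eq.trans (congrArg (Spec.map (CommRingCat.ofHom (Subring.inclusion hsub)) ≫ ·)
        (Scheme.Spec_stalkClosedPointTo_fromSpecStalk G)) (hι.trans ?_)
      rw [Scheme.SpecMap_stalkSpecializes_fromSpecStalk]
      rfl
    have hmem : φ.hom ((Y.presheaf.stalkSpecializes hs).hom a) ∈ R := by
      have h1 : (Subring.inclusion hsub (ρ.hom a) : R₁) = g₁ ((Y.presheaf.stalkSpecializes hs).hom a) :=
        ConcreteCategory.congr_hom hρ a
      have h2 : ((ρ.hom a : R) : Z.residueField z) = φ.hom ((Y.presheaf.stalkSpecializes hs).hom a) :=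
        congrArg Subtype.val h1
      exact h2 ▸ (ρ.hom a).2
    exact (ValuationSubring.mem_ofSubring _ _ _).mp (ValuationSubring.mem_comap.mp ((hRx _).mp hmem))

variable {X : Scheme.{u}} (f : Y ⟶ X)

/-- Uniqueness of lifts from valuation rings of the residue fields of `Z`. -/
def LiftUnique (h : Z ⟶ Y) : Prop :=
  ∀ (z : ↥Z) (R : ValuationSubring ↑(Z.residueField z)) (φ : Spec (CommRingCat.of ↥R) ⟶ X),
    Spec.map (CommRingCat.ofHom R.subtype) ≫ φ = Z.fromSpecResidueField z ≫ h ≫ f →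
    ∀ φ₁ φ₂ : Spec (CommRingCat.of ↥R) ⟶ Y,
      Spec.map (CommRingCat.ofHom R.subtype) ≫ φ₁ = Z.fromSpecResidueField z ≫ h → φ₁ ≫ f = φ →
      Spec.map (CommRingCat.ofHom R.subtype) ≫ φ₂ = Z.fromSpecResidueField z ≫ h → φ₂ ≫ f = φ →
      φ₁ = φ₂

theorem specMapResidue_comp_eq {W : Scheme.{u}} (u : Y ⟶ W) {y : Y} {R' K : Type u} [CommRing R'] [IsLocalRing R']
    [Field K] [Algebra R' K] (i : Y.residueField y ⟶ CommRingCat.of K) (g : Spec (CommRingCat.of R') ⟶ W)
    (hw : u y ⤳ g (cpt R'))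
    (hg : Spec.map i ≫ Y.fromSpecResidueField y ≫ u = Spec.map (CommRingCat.ofHom (algebraMap R' K)) ≫ g) :
    Proj16.specMapResidue hw ≫ i = Scheme.stalkClosedPointTo g ≫ CommRingCat.ofHom (algebraMap R' K) := by
  refine Spec.map_injective ((cancel_mono (W.fromSpecStalk _)).mp ?_)
  rw [Spec.map_comp, Spec.map_comp, Category.assoc, Category.assoc,
    Scheme.Spec_stalkClosedPointTo_fromSpecStalk, Proj16.specMapResidue_fromSpecStalk]
  exact hg

theorem specializes_of_fac {W : Scheme.{u}} {R' K : Type u} [CommRing R'] [IsLocalRing R'] [Field K] [Algebra R' K]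
    (g : Spec (CommRingCat.of R') ⟶ W) (x : Spec (CommRingCat.of K) ⟶ W)
    (hg : Spec.map (CommRingCat.ofHom (algebraMap R' K)) ≫ g = x) :
    x (cpt K) ⤳ g (cpt R') := by
  rw [← hg]
  exact (specializes_closedPoint _).map g.continuous

theorem valuativeUniqueness_of_liftUnique [QuasiCompact h] (hd : DenseRange h.base) (H : LiftUnique f h) :
    ValuativeCriterion.Uniqueness f := by
  intro S
  constructor
  rintro ⟨l₁, e₁, e₁'⟩ ⟨l₂, e₂, e₂'⟩
  suffices l₁ = l₂ by subst this; rfl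
  obtain ⟨z, hz⟩ := FDescent.exists_specializes_of_mem_closure_range (f := h) (hd (S.i₁ (cpt S.K)))
  obtain ⟨i, hi⟩ := exists_desc S.i₁ (rfl : S.i₁ (cpt S.K) = _)
  obtain ⟨R, R₁, hle, hlift, -⟩ := exists_refinement hz (R' := S.R) i
  have hsx : f (S.i₁ (cpt S.K)) ⤳ S.i₂ (cpt S.R) :=
    specializes_of_fac S.i₂ (S.i₁ ≫ f) S.commSq.w.symm
  obtain ⟨GX, hGXc, hGXg⟩ := hlift X f _ hsx _ inferInstance
    (specMapResidue_comp_eq f i S.i₂ hsx (by rw [reassoc_of% hi]; exact S.commSq.w))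
  have key : ∀ l : Spec (CommRingCat.of S.R) ⟶ Y,
      Spec.map (CommRingCat.ofHom (algebraMap S.R S.K)) ≫ l = S.i₁ → l ≫ f = S.i₂ →
      ∃ G : Spec (CommRingCat.of R) ⟶ Y, G (cpt R) = l (cpt S.R) ∧
        Spec.map (CommRingCat.ofHom R.subtype) ≫ G = Z.fromSpecResidueField z ≫ h ∧ G ≫ f = GX := by
    intro l e e'
    have hs := specializes_of_fac l S.i₁ e
    have hs' : (𝟙 Y : Y ⟶ Y) (S.i₁ (cpt S.K)) ⤳ l (cpt S.R) := hs
    obtain ⟨G, hGc, hGg⟩ := hlift Y (𝟙 Y) _ hs' _ inferInstance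
      (specMapResidue_comp_eq (𝟙 Y) i l hs' (by rw [Category.comp_id, hi]; exact e.symm))
    rw [Category.comp_id] at hGg
    refine ⟨G, hGc, hGg, hom_ext_local_domain R.subtype Subtype.coe_injective _ _ ?_ ?_⟩
    · refine (Scheme.Hom.comp_apply G f _).trans ((congrArg f hGc).trans ?_)
      rw [hGXc]
      exact (Scheme.Hom.comp_apply l f _).symm.trans
        (congrArg (fun m : Spec (CommRingCat.of S.R) ⟶ X => m (cpt S.R)) e')
    · rw [reassoc_of% hGg, hGXg]
  obtain ⟨G₁, h1c, h1g, h1f⟩ := key l₁ e₁ e₁'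
  obtain ⟨G₂, h2c, h2g, h2f⟩ := key l₂ e₂ e₂'
  have hG : G₁ = G₂ := H z R GX hGXg G₁ G₂ h1g h1f h2g h2f
  refine hom_ext_local_domain (algebraMap S.R S.K) (IsFractionRing.injective S.R S.K) _ _ ?_ (e₁.trans e₂.symm)
  rw [← h1c, hG, h2c]

theorem valuativeExistence_of_lift [QuasiCompact h] (hd : DenseRange h.base)
    (H : ∀ (z : ↥Z) (R : ValuationSubring ↑(Z.residueField z)) (φ : Spec (CommRingCat.of ↥R) ⟶ X),
      Spec.map (CommRingCat.ofHom R.subtype) ≫ φ = Z.fromSpecResidueField z ≫ h ≫ f →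
      ∃! φ' : Spec (CommRingCat.of ↥R) ⟶ Y,
        Spec.map (CommRingCat.ofHom R.subtype) ≫ φ' = Z.fromSpecResidueField z ≫ h ∧ φ' ≫ f = φ) :
    ValuativeCriterion.Existence f := by
  intro S
  obtain ⟨z, hz⟩ := FDescent.exists_specializes_of_mem_closure_range (f := h) (hd (S.i₁ (cpt S.K)))
  obtain ⟨i, hi⟩ := exists_desc S.i₁ (rfl : S.i₁ (cpt S.K) = _)
  obtain ⟨R, R₁, hle, hlift, l₁, hl₁c, hl₁g, hvals⟩ := exists_refinement hz (R' := S.R) i
  have hsx : f (S.i₁ (cpt S.K)) ⤳ S.i₂ (cpt S.R) :=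
    specializes_of_fac S.i₂ (S.i₁ ≫ f) S.commSq.w.symm
  obtain ⟨GX, hGXc, hGXg⟩ := hlift X f _ hsx _ inferInstance
    (specMapResidue_comp_eq f i S.i₂ hsx (by rw [reassoc_of% hi]; exact S.commSq.w))
  obtain ⟨G, ⟨hGg, hGf⟩, -⟩ := H z R GX hGXg
  let ι : Spec (CommRingCat.of R₁) ⟶ Spec (CommRingCat.of R) :=
    Spec.map (CommRingCat.ofHom (Subring.inclusion hle))
  have hι : Spec.map (CommRingCat.ofHom R₁.subtype) ≫ ι = Spec.map (CommRingCat.ofHom R.subtype) := by
    rw [← Spec.map_comp]; rfl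
  -- both give the lift at `R₁`
  have hf₁ : l₁ ≫ f = (ι ≫ G) ≫ f := by
    rw [Category.assoc, hGf]
    have hsx₁ : f (S.i₁ (cpt S.K)) ⤳ GX (cpt R) := hGXc ▸ hsx
    let β : X.presheaf.stalk (GX (cpt R)) ⟶ Y.presheaf.stalk (S.i₁ (cpt S.K)) :=
      X.presheaf.stalkSpecializes hsx₁ ≫ f.stalkMap (S.i₁ (cpt S.K))
    have hr₁ : Spec.map (Scheme.stalkClosedPointTo l₁ ≫ 𝟙 _) ≫ Y.fromSpecStalk _ = l₁ := by
      rw [Category.comp_id, Scheme.Spec_stalkClosedPointTo_fromSpecStalk]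
    obtain ⟨g₁, hg₁⟩ : ∃ g₁ : Y.presheaf.stalk (S.i₁ (cpt S.K)) ⟶ CommRingCat.of R₁,
        Spec.map g₁ ≫ Y.fromSpecStalk _ = l₁ :=
      ⟨(Y.presheaf.stalkSpecializes (hl₁c ▸ specializes_refl _)) ≫ Scheme.stalkClosedPointTo l₁, by
        rw [Spec.map_comp, Category.assoc, Scheme.SpecMap_stalkSpecializes_fromSpecStalk,
          Scheme.Spec_stalkClosedPointTo_fromSpecStalk]⟩
    let ρ := Scheme.stalkClosedPointTo GX
    have h1 : l₁ ≫ f = Spec.map (β ≫ g₁) ≫ X.fromSpecStalk (GX (cpt R)) := by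
      rw [Spec.map_comp, Spec.map_comp, Category.assoc, Category.assoc,
        Scheme.SpecMap_stalkSpecializes_fromSpecStalk, Scheme.SpecMap_stalkMap_fromSpecStalk, reassoc_of% hg₁]
    have h2 : ι ≫ GX = Spec.map (ρ ≫ CommRingCat.ofHom (Subring.inclusion hle)) ≫
        X.fromSpecStalk (GX (cpt R)) := by
      rw [Spec.map_comp, Category.assoc, Scheme.Spec_stalkClosedPointTo_fromSpecStalk]
    rw [h1, h2]
    congr 2
    have e : (β ≫ g₁) ≫ CommRingCat.ofHom R₁.subtype =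
        (ρ ≫ CommRingCat.ofHom (Subring.inclusion hle)) ≫ CommRingCat.ofHom R₁.subtype := by
      refine Spec.map_injective ((cancel_mono (X.fromSpecStalk _)).mp ?_)
      rw [Spec.map_comp, Category.assoc, ← h1, Spec.map_comp _ (CommRingCat.ofHom R₁.subtype), Category.assoc, ← h2,
        reassoc_of% hl₁g, reassoc_of% hι, hGXg]
    exact CommRingCat.hom_ext (RingHom.ext fun a => Subtype.ext (ConcreteCategory.congr_hom e a))
  have hG₁ : ι ≫ G = l₁ := by
    obtain ⟨m, -, huniq⟩ := H z R₁ (l₁ ≫ f) (by rw [reassoc_of% hl₁g])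
    rw [huniq l₁ ⟨hl₁g, rfl⟩, huniq (ι ≫ G) ⟨by rw [reassoc_of% hι, hGg], hf₁.symm⟩]
  have hs : S.i₁ (cpt S.K) ⤳ G (cpt R) := by
    rw [← hl₁c, ← hG₁]
    exact (specializes_closedPoint _).map G.continuous
  have hr := hvals G hGg hG₁ hs
  choose t ht using hr
  let τ : Y.presheaf.stalk (G (cpt R)) →+* S.R :=
    { toFun := t
      map_one' := IsFractionRing.injective S.R S.K (by simp [ht])
      map_zero' := IsFractionRing.injective S.R S.K (by simp [ht])
      map_add' := fun a b ↦ IsFractionRing.injective S.R S.K (by simp [ht])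
      map_mul' := fun a b ↦ IsFractionRing.injective S.R S.K (by simp [ht]) }
  let τ' : Y.presheaf.stalk (G (cpt R)) ⟶ CommRingCat.of S.R := CommRingCat.ofHom τ
  let l : Spec (CommRingCat.of S.R) ⟶ Y := Spec.map τ' ≫ Y.fromSpecStalk _
  have hl : Spec.map (CommRingCat.ofHom (algebraMap S.R S.K)) ≫ l = S.i₁ := by
    rw [← hi, ← Spec.map_comp_assoc, Scheme.fromSpecResidueField,
      ← Scheme.SpecMap_stalkSpecializes_fromSpecStalk hs, ← Spec.map_comp_assoc, ← Spec.map_comp_assoc]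
    congr 2
    exact CommRingCat.hom_ext (RingHom.ext fun a ↦ ht a)
  refine CommSq.HasLift.mk' ⟨l, hl, ?_⟩
  -- compare in `X` through the local ring at `i₂`
  have hfc : f (G (cpt R)) = S.i₂ (cpt S.R) := by
    rw [← Scheme.Hom.comp_apply, hGf, hGXc]
  have hsp2 : S.i₂ (cpt S.R) ⤳ f (G (cpt R)) := hfc ▸ specializes_refl _
  let γ : X.presheaf.stalk (f (G (cpt R))) ⟶ CommRingCat.of S.R :=
    X.presheaf.stalkSpecializes hsp2 ≫ Scheme.stalkClosedPointTo S.i₂
  have h1 : l ≫ f = Spec.map (f.stalkMap _ ≫ τ') ≫ X.fromSpecStalk (f (G (cpt R))) := by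
    rw [Spec.map_comp, Category.assoc, Category.assoc, Scheme.SpecMap_stalkMap_fromSpecStalk]
  have h2 : S.i₂ = Spec.map γ ≫ X.fromSpecStalk (f (G (cpt R))) := by
    rw [Spec.map_comp, Category.assoc, Scheme.SpecMap_stalkSpecializes_fromSpecStalk,
      Scheme.Spec_stalkClosedPointTo_fromSpecStalk]
  rw [h1, h2]
  congr 2
  have e : (f.stalkMap _ ≫ τ') ≫ CommRingCat.ofHom (algebraMap S.R S.K) =
      γ ≫ CommRingCat.ofHom (algebraMap S.R S.K) := by
    refine comp_eq_of_specMap (X.fromSpecStalk _) _ _ _ _ ?_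
    rw [← h1, ← h2, reassoc_of% hl]
    exact S.commSq.w
  exact CommRingCat.hom_ext (RingHom.ext fun a =>
    IsFractionRing.injective S.R S.K (ConcreteCategory.congr_hom e a))

variable [CompactSpace ↥Z] [QuasiSeparatedSpace ↥Z] [CompactSpace ↥Y] [QuasiSeparatedSpace ↥Y]
    [CompactSpace ↥X] [QuasiSeparatedSpace ↥X]

omit [CompactSpace ↥X] [QuasiSeparatedSpace ↥X] in
theorem isSeparated_iff_liftUnique (hd : DenseRange h.base) : IsSeparated f ↔ LiftUnique f h := by
  constructor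
  · intro hf z R φ hφ φ₁ φ₂ e₁ e₁' e₂ e₂'
    have hU := (IsSeparated.eq_valuativeCriterion.le _ _ f hf).1
      { R := R, K := Z.residueField z, i₁ := Z.fromSpecResidueField z ≫ h, i₂ := φ,
        commSq := ⟨(Category.assoc _ _ _).trans hφ.symm⟩ }
    exact congrArg CommSq.LiftStruct.l (hU.elim ⟨φ₁, e₁, e₁'⟩ ⟨φ₂, e₂, e₂'⟩)
  · intro H
    haveI : QuasiCompact h := inferInstance
    haveI : QuasiSeparated f := QuasiSeparated.of_comp f (terminal.from X)
    exact IsSeparated.of_valuativeCriterion f (valuativeUniqueness_of_liftUnique f hd H)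

theorem isProper_iff_lift [LocallyOfFiniteType f] (hd : DenseRange h.base) :
    IsProper f ↔
      ∀ (z : ↥Z) (R : ValuationSubring ↑(Z.residueField z)) (φ : Spec (CommRingCat.of ↥R) ⟶ X),
        Spec.map (CommRingCat.ofHom R.subtype) ≫ φ = Z.fromSpecResidueField z ≫ h ≫ f →
        ∃! φ' : Spec (CommRingCat.of ↥R) ⟶ Y,
          Spec.map (CommRingCat.ofHom R.subtype) ≫ φ' = Z.fromSpecResidueField z ≫ h ∧ φ' ≫ f = φ := by
  constructor
  · intro hf z R φ hφ
    have hE := (UniversallyClosed.eq_valuativeCriterion.le _ _ f hf.toUniversallyClosed).1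
    obtain ⟨l, hl₁, hl₂⟩ := (hE
      { R := R, K := Z.residueField z, i₁ := Z.fromSpecResidueField z ≫ h, i₂ := φ,
        commSq := ⟨(Category.assoc _ _ _).trans hφ.symm⟩ }).exists_lift
    exact ⟨l, ⟨hl₁, hl₂⟩, fun l' ⟨e, e'⟩ =>
      (isSeparated_iff_liftUnique f hd).1 hf.toIsSeparated z R φ hφ l' l e e' hl₁ hl₂⟩
  · intro H
    haveI : QuasiCompact h := inferInstance
    haveI : QuasiCompact f := inferInstance
    haveI : IsSeparated f := (isSeparated_iff_liftUnique f hd).2 fun z R φ hφ φ₁ φ₂ e₁ e₁' e₂ e₂' =>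
      (H z R φ hφ).unique ⟨e₁, e₁'⟩ ⟨e₂, e₂'⟩
    haveI : UniversallyClosed f := UniversallyClosed.eq_valuativeCriterion.ge _ _ f
      ⟨valuativeExistence_of_lift f hd H, ‹QuasiCompact f›⟩
    exact {}

end Groth.Agent.H1Near
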