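import Groth.Agent.H1Near.Points
import Groth.Agent.UnivOpen.QuasiFiniteUnibranch
import Mathlib

/-!
# Components are disjoint when the number of geometric points is constant
-/

universe u

open CategoryTheory CategoryTheory.Limits AlgebraicGeometry TopologicalSpace IsLocalRing

noncomputable section

namespace Groth.Agent.H1Near

variable {X Y : Scheme.{u}}

theorem exists_generization_of_isOpenMap (f : X ⟶ Y) [LocallyQuasiFinite f] [QuasiCompact f]
    (hf : IsOpenMap f) {x : X} {η : Y} (h : η ⤳ f x) : ∃ z, z ⤳ x ∧ f z = η := by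
  by_contra hne
  let O : Set X := ⋂ t ∈ f ⁻¹' {η}, (closure {t})ᶜ
  have hO : IsOpen O := (f.finite_preimage_singleton η).isOpen_biInter fun _ _ => isClosed_closure.isOpen_compl
  have hxO : x ∈ O := Set.mem_iInter₂.2 fun t ht hc => hne ⟨t, specializes_iff_mem_closure.2 hc, ht⟩
  obtain ⟨t, ht, htη⟩ := h.mem_open (hf _ hO) ⟨x, hxO, rfl⟩
  exact Set.mem_iInter₂.1 ht t htη (subset_closure rfl)

theorem nilradical_prime_of_geomUnibranch {O : Type u} [CommRing O] [IsLocalRing O]
    (h : CAlg2.IsGeomUnibranch O) : (nilradical O).IsPrime := by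
  have := (UnivOpen.geomUnibranch_data h).1
  exact (Ideal.Quotient.isDomain_iff_prime _).1 this

/-- The point of a geometrically unibranch local ring giving a maximal point. -/
theorem asIdeal_eq_nilradical {y : Y} (hy : CAlg2.IsGeomUnibranch (Y.presheaf.stalk y))
    (p : ↥(Spec (Y.presheaf.stalk y))) (hmax : ∀ t, t ⤳ Y.fromSpecStalk y p → t = Y.fromSpecStalk y p) :
    p.asIdeal = nilradical (Y.presheaf.stalk y) := by
  haveI := nilradical_prime_of_geomUnibranch hy
  let r : ↥(Spec (Y.presheaf.stalk y)) := ⟨nilradical _, inferInstance⟩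
  haveI : p.asIdeal.IsPrime := p.isPrime
  have hle : r.asIdeal ≤ p.asIdeal := nilradical_le_prime p.asIdeal
  have h1 : r ⤳ p := (PrimeSpectrum.le_iff_specializes r p).1 hle
  have h2 := hmax _ (h1.map (Y.fromSpecStalk y).continuous)
  exact (congrArg PrimeSpectrum.asIdeal ((Y.fromSpecStalk y).isEmbedding.injective h2)).symm

/-- Two maximal points generizing a geometrically unibranch point are equal. -/
theorem maximal_unique {y : Y} (hy : CAlg2.IsGeomUnibranch (Y.presheaf.stalk y)) {a b : Y}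
    (ha : a ⤳ y) (hb : b ⤳ y) (hma : ∀ t, t ⤳ a → t = a) (hmb : ∀ t, t ⤳ b → t = b) : a = b := by
  obtain ⟨p, rfl⟩ : a ∈ Set.range (Y.fromSpecStalk y) := by rw [Scheme.range_fromSpecStalk]; exact ha
  obtain ⟨q, rfl⟩ : b ∈ Set.range (Y.fromSpecStalk y) := by rw [Scheme.range_fromSpecStalk]; exact hb
  exact congrArg _ (PrimeSpectrum.ext ((asIdeal_eq_nilradical hy p hma).trans (asIdeal_eq_nilradical hy q hmb).symm))

theorem isUnivOpenAt_component [IsLocallyNoetherian Y] (hY : ∀ y : Y, CAlg2.IsGeomUnibranch (Y.presheaf.stalk y))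
    {W : Scheme.{u}} [IsIntegral W] (g : W ⟶ Y) [LocallyOfFiniteType g] [LocallyQuasiFinite g]
    (hmax : ∀ t, t ⤳ g (genericPoint W) → t = g (genericPoint W)) (w : W) : EGA43.IsUnivOpenAt g w := by
  refine UnivOpen.isUnivOpenAt_of_quasiFinite g w (g.quasiFiniteAt w) (hY _) ?_
  let r : ↥(Spec (W.presheaf.stalk w)) := ⟨⊥, Ideal.isPrime_bot⟩
  have hr : W.fromSpecStalk w r = genericPoint W := by
    obtain ⟨q, hq⟩ : genericPoint W ∈ Set.range (W.fromSpecStalk w) := by
      rw [Scheme.range_fromSpecStalk]; exact genericPoint_specializes w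
    have h1 : r ⤳ q := (PrimeSpectrum.le_iff_specializes r q).1 bot_le
    have h2 := h1.map (W.fromSpecStalk w).continuous
    rw [hq] at h2
    exact (h2.antisymm (genericPoint_specializes _)).eq
  let p : ↥(Spec (Y.presheaf.stalk (g w))) := Spec.map (g.stalkMap w) r
  have hp : Y.fromSpecStalk (g w) p = g (genericPoint W) := by
    rw [← hr, ← Scheme.Hom.comp_apply, ← Scheme.Hom.comp_apply, Scheme.SpecMap_stalkMap_fromSpecStalk]
  have h := asIdeal_eq_nilradical (hY _) p (hp ▸ hmax)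
  intro a ha
  rw [← h]
  show (g.stalkMap w).hom a ∈ (⊥ : Ideal (W.presheaf.stalk w))
  exact (Submodule.mem_bot _).2 (RingHom.mem_ker.1 ha)

theorem components_disjoint [IsLocallyNoetherian Y] (hY : ∀ y : Y, CAlg2.IsGeomUnibranch (Y.presheaf.stalk y))
    (f : X ⟶ Y) [IsSeparated f] [LocallyQuasiFinite f] [LocallyOfFiniteType f] [QuasiCompact f]
    [UniversallyOpen f] (hn : IsLocallyConstant (fun z : Y => MoreMor.nGeomConnComp f z)) :
    ∀ Z ∈ irreducibleComponents (X : Type u), ∀ Z' ∈ irreducibleComponents (X : Type u), Z ≠ Z' → Disjoint Z Z' := by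
  classical
  intro Z hZ Z' hZ' hne
  rw [Set.disjoint_left]
  intro x hx hx'
  let ζ₁ := genericPoints.ofComponent ⟨Z, hZ⟩
  let ζ₂ := genericPoints.ofComponent ⟨Z', hZ'⟩
  have hζ : ζ₁ ≠ ζ₂ := fun h => hne (by
    simpa [ζ₁, ζ₂] using congrArg (fun c => (genericPoints.component c).1) h)
  have h1x : ζ₁.1 ⤳ x := (genericPoints.isGenericPoint_ofComponent ⟨Z, hZ⟩).specializes hx
  have h2x : ζ₂.1 ⤳ x := (genericPoints.isGenericPoint_ofComponent ⟨Z', hZ'⟩).specializes hx'
  have hmaxX : ∀ (ζ : genericPoints X) (t : X), t ⤳ ζ.1 → t = ζ.1 := fun ζ t ht =>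
    (ht.antisymm (specializes_iff_mem_closure.2 (ζ.2.2 isIrreducible_singleton.closure ht.closure_subset
      (subset_closure rfl)))).eq
  have hmaxY : ∀ (ζ : genericPoints X) (t : Y), t ⤳ f ζ.1 → t = f ζ.1 := fun ζ t ht => by
    obtain ⟨z, hz, hzt⟩ := exists_generization_of_isOpenMap f f.isOpenMap ht
    rw [← hzt, hmaxX ζ z hz]
  let η := f ζ₁.1
  have hηy : η ⤳ f x := h1x.map f.continuous
  have hηu : ∀ ζ : genericPoints X, f ζ.1 ⤳ f x → f ζ.1 = η := fun ζ h =>
    maximal_unique (hY _) h hηy (hmaxY ζ) (hmaxY ζ₁)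
  let I := {ζ : genericPoints X // f ζ.1 = η}
  haveI : Finite I := by
    haveI := (f.finite_preimage_singleton η).to_subtype
    exact Finite.of_injective (fun i : I => (⟨i.1.1, i.2⟩ : ↥(f ⁻¹' {η})))
      fun i j h => Subtype.ext (Subtype.ext (congrArg Subtype.val h :))
  haveI : Fintype I := Fintype.ofFinite I
  let W : I → Scheme.{u} := fun i =>
    (Scheme.IdealSheafData.vanishingIdeal (Closeds.closure {i.1.1})).subscheme
  let ι : ∀ i, W i ⟶ X := fun i =>
    (Scheme.IdealSheafData.vanishingIdeal (Closeds.closure {i.1.1})).subschemeι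
  haveI : ∀ i, IsIntegral (W i) := fun i => QCoh.isIntegral_closure_point i.1.1
  haveI : ∀ i, IsClosedImmersion (ι i) := fun i => inferInstanceAs (IsClosedImmersion
    (Scheme.IdealSheafData.subschemeι _))
  have hrange : ∀ i, Set.range (ι i) = closure {i.1.1} := fun i => H23.RedSub.range_vanishingIdeal _
  have hgen : ∀ i, ι i (genericPoint (W i)) = i.1.1 := fun i => by
    have h1 := (genericPoint_spec (W i)).image (ι i).continuous
    rw [Set.image_univ, hrange, closure_closure] at h1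
    exact h1.eq isGenericPoint_closure
  haveI : ∀ i, IsSeparated (ι i ≫ f) := fun i => MorphismProperty.comp_mem @IsSeparated _ _ inferInstance inferInstance
  haveI : ∀ i, LocallyOfFiniteType (ι i ≫ f) := fun i =>
    MorphismProperty.comp_mem @LocallyOfFiniteType _ _ inferInstance inferInstance
  haveI : ∀ i, LocallyQuasiFinite (ι i ≫ f) := fun i => inferInstance
  haveI : ∀ i, QuasiCompact (ι i ≫ f) := fun i => MorphismProperty.comp_mem @QuasiCompact _ _ inferInstance inferInstance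
  have hop : ∀ i w, EGA43.IsUnivOpenAt (ι i ≫ f) w := fun i w => by
    refine isUnivOpenAt_component hY (ι i ≫ f) ?_ w
    rw [Scheme.Hom.comp_apply, hgen]
    exact hmaxY i.1
  -- semicontinuity on each component
  have hlsc : ∀ i, MoreMor.nGeomConnComp (ι i ≫ f) (f x) ≤ MoreMor.nGeomConnComp (ι i ≫ f) η := fun i => by
    refine ENat.forall_natCast_le_iff_le.1 fun m hm => ?_
    obtain ⟨U, hU, hUo, hU'⟩ := mem_nhds_iff.1
      (le_nGeomConnComp_mem_nhds m (ι i ≫ f) (f x) (fun w _ => hop i w) hm)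
    exact hU (hηy.mem_open hUo hU')
  have hnη : MoreMor.nGeomConnComp f η = MoreMor.nGeomConnComp f (f x) := by
    obtain ⟨U, hUo, hxU, hU⟩ := hn.exists_open (f x)
    exact hU η (hηy.mem_open hUo hxU)
  -- the two counts
  let τ₁ := acPt η
  let a := acPt x
  let τ₀ := a ≫ f
  have hτ₀ : τ₀ (spt _) = f x := (Scheme.Hom.comp_apply _ _ _).trans (congrArg f (acPt_apply x))
  let Φ₁ : (Σ i, GPts (ι i ≫ f) τ₁) → GPts f τ₁ := fun b => ⟨b.2.1 ≫ ι b.1, (Category.assoc _ _ _).trans b.2.2⟩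
  let Φ₀ : (Σ i, GPts (ι i ≫ f) τ₀) → GPts f τ₀ := fun b => ⟨b.2.1 ≫ ι b.1, (Category.assoc _ _ _).trans b.2.2⟩
  have hinj₁ : Function.Injective Φ₁ := by
    rintro ⟨i, b⟩ ⟨j, c⟩ h
    have hpt : ∀ (k : I) (d : GPts (ι k ≫ f) τ₁), ι k (d.1 (spt _)) = k.1.1 := by
      intro k d
      have h1 : k.1.1 ⤳ ι k (d.1 (spt _)) := specializes_iff_mem_closure.2 (hrange k ▸ ⟨_, rfl⟩)
      have h2 : f (ι k (d.1 (spt _))) = η := by
        rw [← Scheme.Hom.comp_apply, ← Scheme.Hom.comp_apply, d.2]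
        exact acPt_apply η
      haveI := isDiscrete_iff_discreteTopology.1 (f.isDiscrete_preimage_singleton η)
      have h3 : (⟨k.1.1, k.2⟩ : ↥(f ⁻¹' {η})) ⤳ ⟨_, h2⟩ := (subtype_specializes_iff _ _).2 h1
      exact (congrArg Subtype.val h3.eq).symm
    have hij : i = j := by
      refine Subtype.ext (Subtype.ext ?_)
      rw [← hpt i b, ← hpt j c, ← Scheme.Hom.comp_apply, ← Scheme.Hom.comp_apply]
      exact congrArg (fun d : GPts f τ₁ => d.1 (spt _)) h
    subst hij
    exact congrArg (Sigma.mk i) (Subtype.ext ((cancel_mono (ι i)).1 (congrArg Subtype.val h)))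
  have hsurj₀ : Function.Surjective Φ₀ := by
    intro b
    let p := b.1 (spt _)
    have hp : f p = f x := by
      show f (b.1 (spt _)) = _
      rw [← Scheme.Hom.comp_apply, b.2, hτ₀]
    let c : genericPoints X := genericPoints.ofComponent ⟨_, irreducibleComponent_mem_irreducibleComponents p⟩
    have hc : c.1 ⤳ p := (genericPoints.isGenericPoint_ofComponent
      ⟨_, irreducibleComponent_mem_irreducibleComponents p⟩).specializes mem_irreducibleComponent
    let i : I := ⟨c, hηu c (hp ▸ hc.map f.continuous)⟩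
    obtain ⟨l, hl⟩ := H23.RedSub.exists_lift_closed b.1 (ι i) (by
      rintro _ ⟨w, rfl⟩
      rw [hrange, show w = spt _ from Subsingleton.elim _ _]
      exact hc.mem_closure)
    exact ⟨⟨i, l, by rw [reassoc_of% hl]; exact b.2⟩, Subtype.ext hl⟩
  have hninj₀ : ¬ Function.Injective Φ₀ := by
    intro hi
    have hlift : ∀ k : I, k.1.1 ⤳ x → ∃ l : GPts (ι k ≫ f) τ₀, l.1 ≫ ι k = a := by
      intro k hk
      obtain ⟨l, hl⟩ := H23.RedSub.exists_lift_closed a (ι k) (by
        rintro _ ⟨w, rfl⟩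
        rw [hrange, show w = spt _ from Subsingleton.elim _ _, acPt_apply]
        exact hk.mem_closure)
      exact ⟨⟨l, by rw [reassoc_of% hl]⟩, hl⟩
    let i₁ : I := ⟨ζ₁, rfl⟩
    let i₂ : I := ⟨ζ₂, hηu ζ₂ (h2x.map f.continuous)⟩
    obtain ⟨l₁, hl₁⟩ := hlift i₁ h1x
    obtain ⟨l₂, hl₂⟩ := hlift i₂ h2x
    have := hi (a₁ := ⟨i₁, l₁⟩) (a₂ := ⟨i₂, l₂⟩) (Subtype.ext (hl₁.trans hl₂.symm))
    exact hζ (congrArg (fun b : Σ i, GPts (ι i ≫ f) τ₀ => b.1.1) this)
  have hfin : ∀ {Z : Scheme.{u}} (g : Z ⟶ Y) [LocallyQuasiFinite g] [QuasiCompact g] {F : Type u} [Field F]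
      [IsAlgClosed F] (τ : Spec (CommRingCat.of F) ⟶ Y), Finite (GPts g τ) := by
    intro Z g _ _ F _ _ τ
    rw [← ENat.card_lt_top, ← nGeomConnComp_eq]
    exact nGeomConnComp_lt_top g _
  haveI := hfin f τ₀
  haveI := hfin f τ₁
  haveI : ∀ i, Finite (GPts (ι i ≫ f) τ₀) := fun i => hfin _ τ₀
  haveI : ∀ i, Finite (GPts (ι i ≫ f) τ₁) := fun i => hfin _ τ₁
  have e1 : Nat.card (Σ i, GPts (ι i ≫ f) τ₀) ≤ Nat.card (Σ i, GPts (ι i ≫ f) τ₁) := by
    rw [Nat.card_sigma, Nat.card_sigma]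
    refine Finset.sum_le_sum fun i _ => ?_
    have := hlsc i
    rw [← hτ₀, ← acPt_apply η, nGeomConnComp_eq, nGeomConnComp_eq, ENat.card_eq_coe_natCard,
      ENat.card_eq_coe_natCard, Nat.cast_le] at this
    exact this
  have e2 := hnη
  rw [← hτ₀, ← acPt_apply η, nGeomConnComp_eq, nGeomConnComp_eq, ENat.card_eq_coe_natCard,
    ENat.card_eq_coe_natCard, Nat.cast_inj] at e2
  have e3 := Nat.card_le_card_of_injective Φ₁ hinj₁
  have e4 : Nat.card (GPts f τ₀) < Nat.card (Σ i, GPts (ι i ≫ f) τ₀) :=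
    lt_of_le_of_ne (Nat.card_le_card_of_surjective Φ₀ hsurj₀) fun h =>
      hninj₀ ((Nat.bijective_iff_surjective_and_card Φ₀).2 ⟨hsurj₀, h.symm⟩).1
  have e2' : Nat.card (GPts f τ₁) = Nat.card (GPts f τ₀) := e2
  omega

end Groth.Agent.H1Near
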