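import Groth.Agent.Proj16.Centre
import Mathlib

/-!
# Lifting discrete valuation rings of the function field
-/

universe u

open CategoryTheory CategoryTheory.Limits AlgebraicGeometry IsLocalRing

namespace Groth.Agent.H1Near

open Groth.Agent.Proj16

/-- All points of the spectrum of a local ring go where its closed point goes. -/
lemma range_subset_of_closedPoint {R : CommRingCat.{u}} [IsLocalRing R] {Y : Scheme.{u}}
    (h : Spec R ⟶ Y) (U : Y.Opens) (hU : h (closedPoint R) ∈ U) :
    Set.range h ⊆ Set.range U.ι := by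
  rintro _ ⟨z, rfl⟩
  rw [Scheme.Opens.range_ι]
  exact ((specializes_closedPoint z).map h.continuous).mem_open U.2 hU

/-- Two maps from a valuation ring with the same closed point and generic point are equal. -/
lemma hom_ext_of_closedPoint {L : Type u} [Field L] (V : ValuationSubring L) {Y : Scheme.{u}}
    (h₁ h₂ : Spec (CommRingCat.of V) ⟶ Y) (hc : h₁ (closedPoint V) = h₂ (closedPoint V))
    (hg : Spec.map (CommRingCat.ofHom V.subtype) ≫ h₁ = Spec.map (CommRingCat.ofHom V.subtype) ≫ h₂) :
    h₁ = h₂ := by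
  obtain ⟨_, ⟨(U : Y.Opens), hU, rfl⟩, hyU, -⟩ :=
    Y.isBasis_affineOpens.exists_subset_of_mem_open (Set.mem_univ (h₁ (closedPoint V))) isOpen_univ
  haveI : IsAffine U.toScheme := hU
  haveI := specMap_isDominant (CommRingCat.ofHom V.subtype) Subtype.coe_injective
  have r₁ := range_subset_of_closedPoint h₁ U hyU
  have r₂ := range_subset_of_closedPoint h₂ U (hc ▸ hyU)
  rw [← IsOpenImmersion.lift_fac U.ι h₁ r₁, ← IsOpenImmersion.lift_fac U.ι h₂ r₂]
  congr 1
  refine ext_of_isDominant (Spec.map (CommRingCat.ofHom V.subtype)) ?_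
  rw [← cancel_mono U.ι, Category.assoc, Category.assoc, IsOpenImmersion.lift_fac, IsOpenImmersion.lift_fac]
  exact hg

variable {X Y : Scheme.{u}} [IsIntegral X] (f : X ⟶ Y)

/-- Every discrete valuation ring of the function field dominating `y` dominates a point over `y`. -/
def DVRCentres {y : Y} (hξ : f (genericPoint X) ⤳ y) : Prop :=
  ∀ A : ValuationSubring X.functionField, IsDiscreteValuationRing A →
    Dominates f A hξ → ∃ x : X, f x = y ∧ IsCentre A x

theorem dvrCentres_of_isProper {y : Y} (hξ : f (genericPoint X) ⤳ y) (U : Y.Opens) (hyU : y ∈ U)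
    [IsProper (f ∣_ U)] : DVRCentres f hξ := by
  intro A _ hd
  let h := valMap A (toFunctionField f hξ) hd.1
  have hc : h (closedPoint A) = y := valMap_closedPoint A _ hd.1
    fun a ha => (ValuationSubring.mem_nonunits_iff _).2 (hd.2 a ha)
  have hr := range_subset_of_closedPoint (R := CommRingCat.of A) h U (by rw [hc]; exact hyU)
  have hη : genericPoint X ∈ f ⁻¹ᵁ U := hξ.mem_open U.2 hyU
  have hr₁ : Set.range (X.fromSpecStalk (genericPoint X)) ⊆ Set.range (f ⁻¹ᵁ U).ι := by
    refine range_subset_of_closedPoint _ _ ?_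
    rw [Scheme.fromSpecStalk_closedPoint]
    exact hη
  have hV : ValuativeCriterion.Existence (f ∣_ U) :=
    (UniversallyClosed.eq_valuativeCriterion.le _ _ (f ∣_ U)
      (inferInstance : UniversallyClosed (f ∣_ U))).1
  obtain ⟨l, hl₁, hl₂⟩ := (hV
    { R := A, K := X.functionField, i₁ := IsOpenImmersion.lift (f ⁻¹ᵁ U).ι _ hr₁,
      i₂ := IsOpenImmersion.lift U.ι h hr,
      commSq := ⟨by
        rw [← cancel_mono U.ι, Category.assoc, Category.assoc, morphismRestrict_ι,
          IsOpenImmersion.lift_fac_assoc, IsOpenImmersion.lift_fac]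
        exact (specMap_toFunctionField f hξ).symm.trans
          (valMap_generic A (toFunctionField f hξ) hd.1).symm⟩ }).exists_lift
  refine ⟨(l ≫ (f ⁻¹ᵁ U).ι) (closedPoint A), ?_, isCentre_of_lift A _ ?_⟩
  · have e : (l ≫ (f ⁻¹ᵁ U).ι) ≫ f = h := by
      refine (Category.assoc _ _ _).trans ?_
      refine (congrArg (l ≫ ·) (morphismRestrict_ι f U).symm).trans ?_
      refine (Category.assoc _ _ _).symm.trans ?_
      exact (congrArg (· ≫ U.ι) hl₂).trans (IsOpenImmersion.lift_fac _ _ _)
    exact ((Scheme.Hom.comp_apply _ _ _).symm.trans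
      (congrArg (fun φ : Spec (CommRingCat.of A) ⟶ Y => φ (closedPoint A)) e)).trans hc
  · exact (Category.assoc _ _ _).symm.trans
      ((congrArg (· ≫ (f ⁻¹ᵁ U).ι) hl₁).trans (IsOpenImmersion.lift_fac _ _ _))

/-- The hypothesis, transported to an isomorphic field. -/
theorem DVRCentres.exists_lift {y : Y} {hξ : f (genericPoint X) ⤳ y} (H : DVRCentres f hξ)
    {L : Type u} [Field L] (θ : X.functionField ⟶ CommRingCat.of L) (hθ : Function.Bijective θ.hom)
    (V : ValuationSubring L) [IsDiscreteValuationRing V] (h : Spec (CommRingCat.of V) ⟶ Y)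
    (hc : h (closedPoint V) = y)
    (hg : Spec.map (CommRingCat.ofHom V.subtype) ≫ h =
      Spec.map θ ≫ X.fromSpecStalk (genericPoint X) ≫ f) :
    ∃ l : Spec (CommRingCat.of V) ⟶ X, l ≫ f = h ∧
      Spec.map (CommRingCat.ofHom V.subtype) ≫ l = Spec.map θ ≫ X.fromSpecStalk (genericPoint X) := by
  subst hc
  let V' : ValuationSubring X.functionField := V.comap θ.hom
  let e : V' ≃+* V := RingEquiv.ofBijective
    ((θ.hom.comp V'.subtype).codRestrict V.toSubring fun a => a.2)
    ⟨fun a b hab => Subtype.ext (hθ.1 (congrArg Subtype.val hab)), fun b => by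
      obtain ⟨a, ha⟩ := hθ.2 b
      exact ⟨⟨a, show θ.hom a ∈ V by rw [ha]; exact b.2⟩, Subtype.ext ha⟩⟩
  haveI : IsDiscreteValuationRing V' := IsDiscreteValuationRing.RingEquivClass.isDiscreteValuationRing e.symm
  let ρ := Scheme.stalkClosedPointTo h
  have hρ : toFunctionField f hξ ≫ θ = ρ ≫ CommRingCat.ofHom V.subtype := by
    refine Spec.map_injective ((cancel_mono (Y.fromSpecStalk _)).1 ?_)
    rw [Spec.map_comp, Spec.map_comp, Category.assoc, Category.assoc, specMap_toFunctionField,
      Scheme.Spec_stalkClosedPointTo_fromSpecStalk, hg]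
  have hval : ∀ a, θ.hom ((toFunctionField f hξ).hom a) = ((ρ.hom a : V) : L) := fun a =>
    ConcreteCategory.congr_hom hρ a
  have hmem : ∀ a, (toFunctionField f hξ).hom a ∈ V' := fun a => by
    show θ.hom ((toFunctionField f hξ).hom a) ∈ V
    rw [hval]
    exact (ρ.hom a).2
  have hdom : Dominates f V' hξ := by
    refine ⟨hmem, fun a ha => ?_⟩
    rw [← ValuationSubring.mem_nonunits_iff,
      show (toFunctionField f hξ).hom a = ((⟨_, hmem a⟩ : V') : X.functionField) from rfl,
      ValuationSubring.coe_mem_nonunits_iff]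
    intro hu
    haveI hl : IsLocalHom ρ.hom := inferInstanceAs (IsLocalHom (Scheme.stalkClosedPointTo h).hom)
    refine (mem_maximalIdeal a).1 ha (hl.map_nonunit a ?_)
    have := hu.map e
    rwa [show e ⟨_, hmem a⟩ = ρ.hom a from Subtype.ext (hval a)] at this
  obtain ⟨x, hfx, hx1, hx2⟩ := H V' inferInstance hdom
  let ψ : X.presheaf.stalk x ⟶ CommRingCat.of L :=
    CommRingCat.ofHom (algebraMap (X.presheaf.stalk x) X.functionField) ≫ θ
  have hψ : ∀ a, ψ.hom a ∈ V := fun a => hx1 a
  have hψ' : Spec.map ψ ≫ X.fromSpecStalk x =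
      Spec.map θ ≫ X.fromSpecStalk (genericPoint X) := by
    rw [show Spec.map ψ = Spec.map θ ≫ Spec.map (CommRingCat.ofHom
        (algebraMap (X.presheaf.stalk x) X.functionField)) from Spec.map_comp _ _,
      Category.assoc]
    exact congrArg (Spec.map θ ≫ ·) (specMap_algebraMap_stalk x)
  refine ⟨valMap V ψ hψ, ?_, ?_⟩
  · refine hom_ext_of_closedPoint V _ _ ?_ ?_
    · refine (congrArg f (valMap_closedPoint V ψ hψ ?_)).trans hfx
      intro a ha
      have h1 := hx2 a ha
      rw [← ValuationSubring.mem_nonunits_iff,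
        show algebraMap (X.presheaf.stalk x) X.functionField a =
          ((⟨_, hx1 a⟩ : V') : X.functionField) from rfl,
        ValuationSubring.coe_mem_nonunits_iff] at h1
      rw [show ψ.hom a = ((e ⟨_, hx1 a⟩ : V) : L) from rfl, ValuationSubring.coe_mem_nonunits_iff]
      exact fun hu => h1 (by simpa using hu.map e.symm)
    · rw [← Category.assoc, valMap_generic, hg, hψ', Category.assoc]
  · rw [valMap_generic, hψ']

end Groth.Agent.H1Near
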