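import Groth.Agent.H1Near.Chow
import Groth.Agent.H1Near.Lift

/-!
# Properness near a point and discrete valuation rings of the function field
-/

universe u

open CategoryTheory CategoryTheory.Limits AlgebraicGeometry TopologicalSpace IsLocalRing

noncomputable section

namespace Groth.Agent.H1Near

open Groth.Agent.PnCoh.Chow

theorem residueFieldMap_surjective_of_comp {W X' X : Scheme.{u}} (γ : W ⟶ X') (g : X' ⟶ X)
    [IsOpenImmersion (γ ≫ g)] (w : W) : Function.Surjective (g.residueFieldMap (γ w)).hom := by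
  intro a
  have hs : Function.Surjective ((γ ≫ g).residueFieldMap w).hom := by
    intro b
    obtain ⟨c, rfl⟩ := W.residue_surjective w b
    obtain ⟨d, rfl⟩ := (ConcreteCategory.bijective_of_isIso ((γ ≫ g).stalkMap w)).2 c
    refine ⟨X.residue _ d, ?_⟩
    exact ConcreteCategory.congr_hom (Scheme.residue_residueFieldMap (γ ≫ g) w) d
  obtain ⟨b, hb⟩ := hs ((γ.residueFieldMap w).hom a)
  have hinj : Function.Injective (γ.residueFieldMap w).hom := RingHom.injective _
  rw [Scheme.residueFieldMap_comp] at hb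
  exact ⟨b, hinj hb⟩

set_option maxHeartbeats 400000 in
theorem exists_isProper_nhd {X Y : Scheme.{u}} [IsIntegral X] [IsLocallyNoetherian Y]
    (f : X ⟶ Y) [IsSeparated f] [LocallyOfFiniteType f] [QuasiCompact f] {y : Y}
    {hξ : f (genericPoint X) ⤳ y} (H : DVRCentres f hξ) :
    ∃ U : Y.Opens, y ∈ U ∧ IsProper (f ∣_ U) := by
  obtain ⟨_, ⟨(U0 : Y.Opens), (hU0 : IsAffineOpen U0), rfl⟩, hyU0, -⟩ :=
    Y.isBasis_affineOpens.exists_subset_of_mem_open (Set.mem_univ y) isOpen_univ
  haveI : IsNoetherianRing Γ(Y, U0) := IsLocallyNoetherian.component_noetherian ⟨U0, hU0⟩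
  have hη : genericPoint X ∈ f ⁻¹ᵁ U0 := hξ.mem_open U0.2 hyU0
  haveI : Nonempty (f ⁻¹ᵁ U0).toScheme := ⟨⟨_, hη⟩⟩
  haveI : IsIntegral (f ⁻¹ᵁ U0).toScheme := isIntegral_of_isOpenImmersion (f ⁻¹ᵁ U0).ι
  let R : Type u := Γ(Y, U0)
  let f0 : (f ⁻¹ᵁ U0).toScheme ⟶ Spec (CommRingCat.of R) := (f ∣_ U0) ≫ hU0.isoSpec.hom
  haveI : IsSeparated (f ∣_ U0) := MorphismProperty.of_isPullback (isPullback_morphismRestrict f U0).flip inferInstance
  haveI : LocallyOfFiniteType (f ∣_ U0) := MorphismProperty.of_isPullback (isPullback_morphismRestrict f U0).flip inferInstance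
  haveI : QuasiCompact (f ∣_ U0) := MorphismProperty.of_isPullback (isPullback_morphismRestrict f U0).flip inferInstance
  haveI : IsSeparated f0 := MorphismProperty.comp_mem @IsSeparated _ _ inferInstance inferInstance
  haveI : LocallyOfFiniteType f0 :=
    MorphismProperty.comp_mem @LocallyOfFiniteType _ _ inferInstance inferInstance
  haveI : QuasiCompact f0 := MorphismProperty.comp_mem @QuasiCompact _ _ inferInstance inferInstance
  have hf0 : f0 ≫ hU0.fromSpec = (f ⁻¹ᵁ U0).ι ≫ f := by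
    show ((f ∣_ U0) ≫ hU0.isoSpec.hom) ≫ hU0.fromSpec = _
    rw [Category.assoc, hU0.isoSpec_hom_fromSpec, morphismRestrict_ι]
  obtain ⟨D⟩ := exists_data f0
  let ts : CohB1.ProjSpace D.N R ⟶ Spec (CommRingCat.of R) := CohB1.ProjSpace.toSpec D.N R
  haveI : IsProper ts := isProper_toSpec D.N R
  haveI : IsLocallyNoetherian (CohB1.ProjSpace D.N R) := LocallyOfFiniteType.isLocallyNoetherian ts
  let q : CohB1.ProjSpace D.N R ⟶ Y := ts ≫ hU0.fromSpec
  let π0 : D.X' ⟶ X := D.π ≫ (f ⁻¹ᵁ U0).ι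
  have hcomm : π0 ≫ f = D.p ≫ q := by
    show (D.π ≫ _) ≫ f = D.p ≫ ts ≫ hU0.fromSpec
    rw [Category.assoc, ← hf0, ← Category.assoc, D.π_f, Category.assoc]
  haveI : LocallyOfFiniteType (D.p ≫ ts) := by
    rw [← D.π_f]; exact MorphismProperty.comp_mem @LocallyOfFiniteType _ _ inferInstance inferInstance
  haveI : LocallyOfFiniteType D.p := locallyOfFiniteType_of_comp D.p ts
  let bd := closure (Set.range D.p) \ Set.range D.p
  have hbd : IsClosed (ts '' bd) := ts.isClosedMap _ (isClosed_boundary D)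
  let U : Y.Opens := hU0.fromSpec ''ᵁ ⟨(ts '' bd)ᶜ, hbd.isOpen_compl⟩
  by_cases hyU : y ∈ U
  · refine ⟨U, hyU, ?_⟩
    haveI : IsClosedImmersion (D.p ∣_ q ⁻¹ᵁ U) := by
      refine isClosedImmersion_of_disjoint D _ fun b hb hbU => ?_
      obtain ⟨t, ht, hte⟩ : q b ∈ hU0.fromSpec '' (ts '' bd)ᶜ := hbU
      exact ht ⟨b, hb, (hU0.fromSpec.isOpenEmbedding.injective hte).symm⟩
    haveI : IsIso (hU0.fromSpec ∣_ U) := by
      haveI : IsOpenImmersion (hU0.fromSpec ∣_ U) :=
        MorphismProperty.of_isPullback (isPullback_morphismRestrict hU0.fromSpec U).flip inferInstance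
      refine (isIso_iff_isOpenImmersion_and_surjective _).2 ⟨inferInstance, ⟨fun z => ?_⟩⟩
      obtain ⟨t, -, ht⟩ : z.1 ∈ hU0.fromSpec '' (ts '' bd)ᶜ := z.2
      have htm : t ∈ hU0.fromSpec ⁻¹ᵁ U := show hU0.fromSpec t ∈ U by rw [ht]; exact z.2
      refine ⟨⟨t, htm⟩, U.ι.isOpenEmbedding.injective ?_⟩
      exact ((Scheme.Hom.comp_apply _ _ _).symm.trans
        (congrArg (fun φ : (hU0.fromSpec ⁻¹ᵁ U).toScheme ⟶ _ => φ ⟨t, htm⟩)
          (morphismRestrict_ι hU0.fromSpec U))).trans ht
    haveI : IsProper (q ∣_ U) := by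
      rw [morphismRestrict_comp]
      exact MorphismProperty.comp_mem @IsProper _ _
        (MorphismProperty.of_isPullback (isPullback_morphismRestrict ts _).flip inferInstance) inferInstance
    have hP : IsProper ((π0 ≫ f) ∣_ U) := by
      rw [hcomm, morphismRestrict_comp]
      exact MorphismProperty.comp_mem @IsProper _ _
        ((IsClosedImmersion.iff_isProper_and_mono (D.p ∣_ q ⁻¹ᵁ U)).1 ‹_›).1 ‹IsProper (q ∣_ U)›
    haveI : UniversallyClosed ((π0 ∣_ f ⁻¹ᵁ U) ≫ (f ∣_ U)) := by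
      rw [morphismRestrict_comp] at hP; exact hP.toUniversallyClosed
    haveI : IsDominant D.π := by
      haveI : IsDominant (D.γ ≫ D.π) := by rw [D.γ_π]; infer_instance
      exact IsDominant.of_comp D.γ D.π
    have hπsurj : Function.Surjective D.π := by
      rw [← Set.range_eq_univ, ← D.π.isClosedMap.isClosed_range.closure_eq]
      exact D.π.denseRange.closure_range
    haveI : Surjective (π0 ∣_ f ⁻¹ᵁ U) := ⟨fun z => by
      have hz : (f ⁻¹ᵁ U).ι z ∈ f ⁻¹ᵁ U0 := by
        obtain ⟨t, -, ht⟩ : f z.1 ∈ hU0.fromSpec '' (ts '' bd)ᶜ := z.2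
        show f _ ∈ (U0 : Set Y)
        rw [← hU0.range_fromSpec]
        exact ⟨t, ht⟩
      obtain ⟨w, hw⟩ := hπsurj ⟨_, hz⟩
      have hw' : π0 w = (f ⁻¹ᵁ U).ι z := congrArg (f ⁻¹ᵁ U0).ι hw
      have hwm : w ∈ π0 ⁻¹ᵁ (f ⁻¹ᵁ U) := show π0 w ∈ f ⁻¹ᵁ U by rw [hw']; exact z.2
      refine ⟨⟨w, hwm⟩, (f ⁻¹ᵁ U).ι.isOpenEmbedding.injective ?_⟩
      exact ((Scheme.Hom.comp_apply _ _ _).symm.trans
        (congrArg (fun φ : (π0 ⁻¹ᵁ (f ⁻¹ᵁ U)).toScheme ⟶ _ => φ ⟨w, hwm⟩)
          (morphismRestrict_ι π0 (f ⁻¹ᵁ U)))).trans hw'⟩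
    haveI : UniversallyClosed (f ∣_ U) := UniversallyClosed.of_comp_surjective (π0 ∣_ f ⁻¹ᵁ U) (f ∣_ U)
    haveI : IsSeparated (f ∣_ U) := MorphismProperty.of_isPullback (isPullback_morphismRestrict f U).flip inferInstance
    haveI : LocallyOfFiniteType (f ∣_ U) := MorphismProperty.of_isPullback (isPullback_morphismRestrict f U).flip inferInstance
    exact {}
  · exfalso
    obtain ⟨t, ht⟩ : y ∈ Set.range hU0.fromSpec := by rw [hU0.range_fromSpec]; exact hyU0
    obtain ⟨b, hb, hbt⟩ : t ∈ ts '' bd := by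
      by_contra h
      exact hyU (show y ∈ hU0.fromSpec '' (ts '' bd)ᶜ from ⟨t, h, ht⟩)
    have hqb : q b = y := by
      show hU0.fromSpec (ts b) = y
      rw [hbt, ht]
    let w := genericPoint D.W₀
    let x := D.γ w
    have hsp : D.p x ⤳ b := by
      refine specializes_iff_mem_closure.2 (closure_minimal ?_ isClosed_closure hb.1)
      rintro _ ⟨z, rfl⟩
      have h1 : z ∈ closure (D.γ '' closure {w}) := by
        rw [show closure ({w} : Set D.W₀) = Set.univ from (genericPoint_spec D.W₀).def, Set.image_univ,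
          D.γ.denseRange.closure_range]
        trivial
      have h2 : closure (D.γ '' closure {w}) ⊆ closure ({x} : Set D.X') :=
        closure_minimal ((image_closure_subset_closure_image D.γ.continuous).trans
          (by rw [Set.image_singleton])) isClosed_closure
      have h3 := ((specializes_iff_mem_closure.2 (h2 h1)).map D.p.continuous)
      exact specializes_iff_mem_closure.1 h3
    have hne : b ≠ D.p x := fun h => hb.2 ⟨x, h.symm⟩
    obtain ⟨V, h, hV, hc, hg⟩ := Proj16.exists_dvr_path hsp hne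
    haveI : IsOpenImmersion (D.γ ≫ π0) := by
      show IsOpenImmersion (D.γ ≫ D.π ≫ (f ⁻¹ᵁ U0).ι)
      rw [← Category.assoc, D.γ_π]; infer_instance
    have hπx : π0 x = genericPoint X :=
      (Scheme.Hom.comp_apply D.γ π0 w).symm.trans (genericPoint_eq_of_isOpenImmersion (D.γ ≫ π0))
    have hsp' : π0 x ⤳ genericPoint X := hπx ▸ specializes_refl _
    let θ := Proj16.specMapResidue hsp'
    have hθ : Function.Bijective θ.hom := by
      refine ⟨RingHom.injective (R := X.functionField) θ.hom, fun a => ?_⟩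
      obtain ⟨c, hc⟩ := residueFieldMap_surjective_of_comp D.γ π0 w a
      obtain ⟨d, hd⟩ := X.residue_surjective _ c
      obtain ⟨e, he⟩ : ∃ e, X.presheaf.stalkSpecializes hsp' e = d := by
        have : Function.Surjective (X.presheaf.stalkSpecializes hsp').hom := by
          intro e
          exact ⟨X.presheaf.stalkSpecializes (hπx.symm ▸ specializes_refl _) e, by
            rw [← CommRingCat.comp_apply, TopCat.Presheaf.stalkSpecializes_comp,
              TopCat.Presheaf.stalkSpecializes_refl]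
            rfl⟩
        exact this d
      refine ⟨e, ?_⟩
      rw [← hc, ← hd, ← he]
      exact (ConcreteCategory.congr_hom (Scheme.residue_residueFieldMap π0 x)
        (X.presheaf.stalkSpecializes hsp' e)).symm
    have hc' : (h ≫ q) (closedPoint V) = y :=
      (Scheme.Hom.comp_apply h q _).trans ((congrArg q hc).trans hqb)
    have hg' : Spec.map (CommRingCat.ofHom V.subtype) ≫ h ≫ q =
        Spec.map θ ≫ X.fromSpecStalk (genericPoint X) ≫ f := by
      rw [← Category.assoc, hg, Category.assoc, ← hcomm, ← Category.assoc, ← Category.assoc]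
      exact (congrArg (· ≫ f) ((Category.assoc _ _ _).trans
        (Proj16.specMapResidue_fromSpecStalk hsp').symm)).trans (Category.assoc _ _ _)
    haveI := hV
    obtain ⟨l, hl, hlg⟩ :=
      @DVRCentres.exists_lift _ _ _ f y hξ H (D.X'.residueField x : Type u) _ θ hθ V _ (h ≫ q) hc' hg'
    have hlc : f (l (closedPoint V)) = y :=
      (Scheme.Hom.comp_apply l f _).symm.trans
        ((congrArg (fun φ : Spec (CommRingCat.of V) ⟶ Y => φ (closedPoint V)) hl).trans hc')
    have hr := range_subset_of_closedPoint (R := CommRingCat.of V) l (f ⁻¹ᵁ U0)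
      (show f (l (closedPoint V)) ∈ U0 by rw [hlc]; exact hyU0)
    let l0 := IsOpenImmersion.lift (f ⁻¹ᵁ U0).ι l hr
    have hE : ValuativeCriterion.Existence D.π :=
      (UniversallyClosed.eq_valuativeCriterion.le _ _ D.π (inferInstance : UniversallyClosed D.π)).1
    have hsq : D.X'.fromSpecResidueField x ≫ D.π =
        Spec.map (CommRingCat.ofHom V.subtype) ≫ l0 := by
      refine (cancel_mono (f ⁻¹ᵁ U0).ι).1 ?_
      refine Eq.trans ?_ ((congrArg (Spec.map (CommRingCat.ofHom V.subtype) ≫ ·)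
        (IsOpenImmersion.lift_fac _ _ hr)).symm.trans (Category.assoc _ _ _).symm)
      exact ((Category.assoc _ _ _).trans (Proj16.specMapResidue_fromSpecStalk hsp').symm).trans hlg.symm
    obtain ⟨m, hm₁, hm₂⟩ := (hE
      { R := V, K := D.X'.residueField x, i₁ := D.X'.fromSpecResidueField x, i₂ := l0,
        commSq := ⟨hsq⟩ }).exists_lift
    have hmp : m ≫ D.p = h := by
      haveI := Proj16.specMap_isDominant (CommRingCat.ofHom V.subtype) Subtype.coe_injective
      refine ext_of_isDominant_of_isSeparated ts ?_ (Spec.map (CommRingCat.ofHom V.subtype)) ?_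
      · rw [Category.assoc, ← D.π_f, reassoc_of% hm₂, ← cancel_mono hU0.fromSpec, Category.assoc,
          hf0, IsOpenImmersion.lift_fac_assoc, hl, Category.assoc]
      · rw [hg, ← Category.assoc]
        exact congrArg (· ≫ D.p) hm₁
    exact hb.2 ⟨m (closedPoint V), ((Scheme.Hom.comp_apply m D.p _).symm.trans
      (congrArg (fun φ : Spec (CommRingCat.of V) ⟶ _ => φ (closedPoint V)) hmp)).trans hc⟩

theorem main_iff {X Y : Scheme.{u}} [IsIntegral X] [IsLocallyNoetherian Y]
    (f : X ⟶ Y) [IsSeparated f] [LocallyOfFiniteType f] [QuasiCompact f] {y : Y}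
    (hξ : f.base (genericPoint X) ⤳ y) :
    (∃ U : Y.Opens, y ∈ U ∧ IsProper (f ∣_ U)) ↔
      ∀ A : ValuationSubring X.functionField, IsDiscreteValuationRing A →
        (∀ r : Y.presheaf.stalk y, A.valuation ((Y.presheaf.stalkSpecializes hξ ≫ f.stalkMap (genericPoint X)) r) ≤ 1) →
        (∀ r ∈ IsLocalRing.maximalIdeal (Y.presheaf.stalk y),
            A.valuation ((Y.presheaf.stalkSpecializes hξ ≫ f.stalkMap (genericPoint X)) r) < 1) →
        ∃ x : X, f.base x = y ∧
          (∀ r : X.presheaf.stalk x, A.valuation (X.presheaf.stalkSpecializes (genericPoint_specializes x) r) ≤ 1) ∧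
          (∀ r ∈ IsLocalRing.maximalIdeal (X.presheaf.stalk x),
            A.valuation (X.presheaf.stalkSpecializes (genericPoint_specializes x) r) < 1) := by
  constructor
  · rintro ⟨U, hyU, hU⟩ A hA h1 h2
    obtain ⟨x, hx, hx1, hx2⟩ := dvrCentres_of_isProper f hξ U hyU A hA
      ⟨fun r => (A.valuation_le_one_iff _).1 (h1 r), h2⟩
    exact ⟨x, hx, fun r => (A.valuation_le_one_iff _).2 (hx1 r), hx2⟩
  · intro H
    refine exists_isProper_nhd f (hξ := hξ) fun A hA hd => ?_
    obtain ⟨x, hx, hx1, hx2⟩ := H A hA (fun r => (A.valuation_le_one_iff _).2 (hd.1 r)) hd.2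
    exact ⟨x, hx, fun r => (A.valuation_le_one_iff _).1 (hx1 r), hx2⟩

end Groth.Agent.H1Near
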