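import Groth.Agent.H1Near.Closure
import Mathlib

/-!
# Properness near a point from sections over discrete valuation rings
-/

universe u

open CategoryTheory CategoryTheory.Limits AlgebraicGeometry TopologicalSpace IsLocalRing

noncomputable section

namespace Groth.Agent.H1Near

theorem exists_isProper_nhd_of_dvr_sections {X Y : Scheme.{u}} [IsLocallyNoetherian Y]
    (f : X ⟶ Y) [IsSeparated f] [LocallyOfFiniteType f] [QuasiCompact f] (y : Y)
    (h : ∀ (A : Type u) [CommRing A] [IsDomain A] [IsDiscreteValuationRing A]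
      (g : Spec (CommRingCat.of A) ⟶ Y), g.base (IsLocalRing.closedPoint A) = y →
      ∀ σ : Spec (CommRingCat.of (FractionRing A)) ⟶ pullback f g,
        σ ≫ pullback.snd f g = Spec.map (CommRingCat.ofHom (algebraMap A (FractionRing A))) →
        ∃ s : Spec (CommRingCat.of A) ⟶ pullback f g, s ≫ pullback.snd f g = 𝟙 _ ∧
          Spec.map (CommRingCat.ofHom (algebraMap A (FractionRing A))) ≫ s = σ) :
    ∃ U : Y.Opens, y ∈ U ∧ IsProper (f ∣_ U) := by
  obtain ⟨_, ⟨(W : Y.Opens), (hW : IsAffineOpen W), rfl⟩, hyW, -⟩ :=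
    Y.isBasis_affineOpens.exists_subset_of_mem_open (Set.mem_univ y) isOpen_univ
  haveI : CompactSpace W.toScheme := isCompact_iff_compactSpace.mp hW.isCompact
  haveI : IsLocallyNoetherian W.toScheme := LocallyOfFiniteType.isLocallyNoetherian W.ι
  haveI : IsNoetherian W.toScheme := {}
  let f' := f ∣_ W
  haveI : IsSeparated f' := MorphismProperty.of_isPullback (isPullback_morphismRestrict f W).flip inferInstance
  haveI : LocallyOfFiniteType f' :=
    MorphismProperty.of_isPullback (isPullback_morphismRestrict f W).flip inferInstance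
  haveI : QuasiCompact f' := MorphismProperty.of_isPullback (isPullback_morphismRestrict f W).flip inferInstance
  let y' : W.toScheme := ⟨y, hyW⟩
  have H : DVRSections f' Set.univ y' := by
    intro A _ _ _ g hgc x' _ hx'2 hb
    let m : Spec (CommRingCat.of (FractionRing A)) ⟶ Spec (CommRingCat.of A) :=
      Spec.map (CommRingCat.ofHom (algebraMap A (FractionRing A)))
    let pt : ↥(Spec (CommRingCat.of (FractionRing A))) := closedPoint (FractionRing A)
    have hm : m pt = pullback.snd f' g x' :=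
      (specMap_subtype_closedPoint _ (IsFractionRing.injective A (FractionRing A))).trans hx'2.symm
    obtain ⟨φ, hφ⟩ := exists_desc m hm
    haveI := isIso_residueFieldMap_of_bijective (pullback.snd f' g) x' hb
    obtain ⟨τ, hτ, hτ2⟩ : ∃ τ : Spec (CommRingCat.of (FractionRing A)) ⟶ pullback f' g,
        τ pt = x' ∧ τ ≫ pullback.snd f' g = m := by
      refine ⟨Spec.map (inv ((pullback.snd f' g).residueFieldMap x') ≫ φ) ≫
        (pullback f' g).fromSpecResidueField x',
        (Scheme.Hom.comp_apply _ _ _).trans (Scheme.fromSpecResidueField_apply _ _), ?_⟩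
      rw [Category.assoc, ← Scheme.Hom.SpecMap_residueFieldMap_fromSpecResidueField,
        ← Spec.map_comp_assoc, IsIso.hom_inv_id_assoc, hφ]
    let σ0 : Spec (CommRingCat.of (FractionRing A)) ⟶ pullback f (g ≫ W.ι) :=
      pullback.lift (τ ≫ pullback.fst f' g ≫ (f ⁻¹ᵁ W).ι) m (by
        rw [Category.assoc, Category.assoc, ← morphismRestrict_ι, pullback.condition_assoc, reassoc_of% hτ2])
    obtain ⟨s, hs1, hs2⟩ := h A (g ≫ W.ι) ((Scheme.Hom.comp_apply _ _ _).trans (congrArg W.ι hgc)) σ0
      (pullback.lift_snd _ _ _)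
    let l := s ≫ pullback.fst f (g ≫ W.ι)
    have hl : l ≫ f = g ≫ W.ι := by rw [Category.assoc, pullback.condition, reassoc_of% hs1]
    have hr : Set.range l ⊆ Set.range (f ⁻¹ᵁ W).ι := by
      rintro _ ⟨w, rfl⟩
      rw [Scheme.Opens.range_ι]
      show f (l w) ∈ W
      rw [← Scheme.Hom.comp_apply, hl]
      exact (g w).2
    let l' := IsOpenImmersion.lift (f ⁻¹ᵁ W).ι l hr
    have hl' : l' ≫ f' = g := by
      rw [← cancel_mono W.ι, Category.assoc, morphismRestrict_ι, IsOpenImmersion.lift_fac_assoc, hl]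
    refine ⟨pullback.lift l' (𝟙 _) (by rw [hl', Category.id_comp]), pullback.lift_snd _ _ _, m pt, ?_⟩
    have e : m ≫ pullback.lift l' (𝟙 _) (by rw [hl', Category.id_comp]) = τ := by
      apply pullback.hom_ext
      · rw [Category.assoc, pullback.lift_fst, ← cancel_mono (f ⁻¹ᵁ W).ι, Category.assoc, Category.assoc,
          IsOpenImmersion.lift_fac, reassoc_of% hs2]
        exact pullback.lift_fst _ _ _
      · rw [Category.assoc, pullback.lift_snd, Category.comp_id, hτ2]
    rw [← Scheme.Hom.comp_apply, e, hτ]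
  obtain ⟨U, hyU, hC, hP⟩ := exists_proper_of_dvrSections f' Set.univ
    (fun _ _ _ => Set.mem_univ _) y' H
  let j := (Scheme.IdealSheafData.vanishingIdeal
    (⟨(f' ⁻¹ᵁ U).ι.base ⁻¹' closure Set.univ, hC⟩ : TopologicalSpace.Closeds ↥(f' ⁻¹ᵁ U).toScheme)).subschemeι
  haveI : Surjective j := ⟨fun z => by
    have h1 : z ∈ Set.range j := by rw [H23.RedSub.range_vanishingIdeal]; simp
    exact h1⟩
  haveI : UniversallyClosed (j ≫ (f' ∣_ U)) := hP.toUniversallyClosed
  haveI : UniversallyClosed (f' ∣_ U) := UniversallyClosed.of_comp_surjective j (f' ∣_ U)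
  haveI : IsSeparated (f' ∣_ U) := MorphismProperty.of_isPullback (isPullback_morphismRestrict f' U).flip inferInstance
  haveI : LocallyOfFiniteType (f' ∣_ U) :=
    MorphismProperty.of_isPullback (isPullback_morphismRestrict f' U).flip inferInstance
  have hP' : IsProper (f' ∣_ U) := {}
  refine ⟨W.ι ''ᵁ U, ⟨y', hyU, rfl⟩, ?_⟩
  exact (MorphismProperty.arrow_mk_iso_iff @IsProper (morphismRestrictRestrict f W U)).1 hP'

theorem exists_proper_immersion_factorisation_iff {X Y : Scheme.{u}}
    (f : X ⟶ Y) :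
    (∃ (Z : Scheme.{u}) (g : X ⟶ Z) (h : Z ⟶ Y), IsProper g ∧ IsImmersion h ∧ g ≫ h = f) ↔
      ∀ x : X, ∃ U : Y.Opens, f x ∈ U ∧ IsProper (f ∣_ U) := by
  constructor
  · rintro ⟨Z, g, h, hg, hh, rfl⟩ x
    haveI := hg
    haveI := hh
    have hmem : ∀ z, h z ∈ h.coborderRange := fun z => subset_coborder ⟨z, rfl⟩
    refine ⟨h.coborderRange, by rw [Scheme.Hom.comp_apply]; exact hmem _, ?_⟩
    have htop : (g ≫ h) ⁻¹ᵁ h.coborderRange = ⊤ := top_le_iff.1 fun t _ => by
      show (g ≫ h) t ∈ h.coborderRange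
      rw [Scheme.Hom.comp_apply]; exact hmem _
    haveI : IsIso ((g ≫ h) ⁻¹ᵁ h.coborderRange).ι := by
      rw [htop]; exact inferInstanceAs (IsIso (Scheme.topIso X).hom)
    have : (g ≫ h) ∣_ h.coborderRange = ((g ≫ h) ⁻¹ᵁ h.coborderRange).ι ≫ g ≫ h.liftCoborder := by
      rw [← cancel_mono h.coborderRange.ι, morphismRestrict_ι, Category.assoc, Category.assoc,
        Scheme.Hom.liftCoborder_ι]
    rw [this]
    haveI : IsProper (g ≫ h.liftCoborder) := MorphismProperty.comp_mem @IsProper _ _ hg inferInstance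
    exact (MorphismProperty.cancel_left_of_respectsIso @IsProper _ _).2 ‹_›
  · intro H
    choose U hxU hU using H
    let V : Y.Opens := ⨆ x, U x
    have htop : f ⁻¹ᵁ V = ⊤ := top_le_iff.1 fun t _ => Opens.mem_iSup.2 ⟨t, hxU t⟩
    haveI : IsIso (f ⁻¹ᵁ V).ι := by rw [htop]; exact inferInstanceAs (IsIso (Scheme.topIso X).hom)
    have hP : IsProper (f ∣_ V) := by
      refine (IsZariskiLocalAtTarget.iff_of_iSup_eq_top (P := @IsProper) (fun x => V.ι ⁻¹ᵁ U x) ?_).2 fun x => ?_
      · rw [eq_top_iff]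
        rintro ⟨z, hz⟩ -
        obtain ⟨x, hx⟩ := Opens.mem_iSup.1 hz
        exact Opens.mem_iSup.2 ⟨x, hx⟩
      · refine (MorphismProperty.arrow_mk_iso_iff @IsProper (morphismRestrictRestrict f V _)).2 ?_
        have e : V.ι ''ᵁ (V.ι ⁻¹ᵁ U x) = U x := by
          rw [Scheme.Hom.image_preimage_eq_opensRange_inf, Scheme.Opens.opensRange_ι,
            inf_eq_right.2 (le_iSup U x)]
        exact (MorphismProperty.arrow_mk_iso_iff @IsProper (morphismRestrictEq f e)).2 (hU x)
    refine ⟨V.toScheme, inv (f ⁻¹ᵁ V).ι ≫ (f ∣_ V), V.ι, ?_, inferInstance, ?_⟩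
    · exact (MorphismProperty.cancel_left_of_respectsIso @IsProper _ _).2 hP
    · rw [Category.assoc, morphismRestrict_ι, IsIso.inv_hom_id_assoc]

end Groth.Agent.H1Near
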