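import Groth.Agent.H1Near.Geom
import Groth.Agent.Proj16.ValSection

/-!
# Properness from constancy of the number of geometric points
-/

universe u

open CategoryTheory CategoryTheory.Limits AlgebraicGeometry TopologicalSpace IsLocalRing

noncomputable section

namespace Groth.Agent.H1Near

/-- A point with values in the fraction field extends along a specialization over the closed point. -/
theorem exists_section_of_specializes {A : Type u} [CommRing A] [IsDomain A] [ValuationRing A] {K : Type u}
    [Field K] [Algebra A K] [IsFractionRing A K] {X : Scheme.{u}} (f : X ⟶ Spec (CommRingCat.of A))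
    (x : Spec (CommRingCat.of K) ⟶ X)
    (hx : x ≫ f = Spec.map (CommRingCat.ofHom (algebraMap A K))) {z : X} (hsp : x (spt K) ⤳ z)
    (hfz : f z = spt A) :
    ∃ s : Spec (CommRingCat.of A) ⟶ X, s ≫ f = 𝟙 _ ∧
      Spec.map (CommRingCat.ofHom (algebraMap A K)) ≫ s = x := by
  let φ : X.presheaf.stalk z ⟶ CommRingCat.of K :=
    X.presheaf.stalkSpecializes hsp ≫ Scheme.stalkClosedPointTo x
  have hφ : Spec.map φ ≫ X.fromSpecStalk z = x := by
    rw [Spec.map_comp, Category.assoc]
    exact (congrArg (Spec.map (Scheme.stalkClosedPointTo x) ≫ ·)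
      (Scheme.SpecMap_stalkSpecializes_fromSpecStalk hsp)).trans
        (Scheme.Spec_stalkClosedPointTo_fromSpecStalk x)
  let σ : CommRingCat.of A ⟶ X.presheaf.stalk z := Spec.preimage (X.fromSpecStalk z ≫ f)
  have hσ : Spec.map σ = X.fromSpecStalk z ≫ f := Spec.map_preimage _
  have hσφ : σ ≫ φ = CommRingCat.ofHom (algebraMap A K) := by
    refine Spec.map_injective ?_
    rw [Spec.map_comp, hσ, ← Category.assoc, hφ, hx]
  have hval : ∀ a, φ.hom (σ.hom a) = algebraMap A K a := fun a ↦
    congrArg (fun k : CommRingCat.of A ⟶ CommRingCat.of K ↦ k a) hσφ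
  have hloc : ∀ a, IsUnit (σ.hom a) → IsUnit a := by
    intro a ha
    by_contra hn
    have h1 : Spec.map σ (closedPoint (X.presheaf.stalk z)) = spt A := by
      rw [hσ]
      exact (Scheme.Hom.comp_apply _ _ _).trans ((congrArg f Scheme.fromSpecStalk_closedPoint).trans hfz)
    have h2 : a ∈ (Spec.map σ (closedPoint (X.presheaf.stalk z))).asIdeal := by
      rw [h1]
      exact (mem_maximalIdeal a).mpr hn
    exact (mem_maximalIdeal (σ.hom a)).mp h2 ha
  have hmem : ∀ c, φ.hom c ∈ (algebraMap A K).range := by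
    intro c
    rcases ValuationRing.isInteger_or_isInteger A (φ.hom c) with h | ⟨a, ha⟩
    · exact h
    · rcases eq_or_ne (φ.hom c) 0 with h0 | h0
      · exact h0 ▸ Subring.zero_mem _
      · have h1 : φ.hom (c * σ.hom a) = 1 := by
          rw [map_mul, hval, show algebraMap A K a = (φ.hom c)⁻¹ from ha, mul_inv_cancel₀ h0]
        by_cases hu : IsUnit (σ.hom a)
        · obtain ⟨b, hb⟩ := (hloc a hu).exists_right_inv
          refine ⟨b, ?_⟩
          have h2 : algebraMap A K a * algebraMap A K b = 1 := by rw [← map_mul, hb, map_one]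
          rw [show algebraMap A K a = (φ.hom c)⁻¹ from ha] at h2
          rw [eq_inv_of_mul_eq_one_right h2, inv_inv]
        · have hm : c * σ.hom a ∈ maximalIdeal (X.presheaf.stalk z) :=
            Ideal.mul_mem_left _ _ ((mem_maximalIdeal _).mpr hu)
          refine absurd ((isUnit_one_sub_self_of_mem_nonunits _ hm).map φ.hom) ?_
          rw [map_sub, map_one, h1, sub_self]
          exact not_isUnit_zero
  choose t ht using hmem
  let τ : X.presheaf.stalk z →+* A :=
    { toFun := t
      map_one' := IsFractionRing.injective A K (by simp [ht])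
      map_zero' := IsFractionRing.injective A K (by simp [ht])
      map_add' := fun a b ↦ IsFractionRing.injective A K (by simp [ht])
      map_mul' := fun a b ↦ IsFractionRing.injective A K (by simp [ht]) }
  refine ⟨Spec.map (CommRingCat.ofHom τ) ≫ X.fromSpecStalk z, ?_, ?_⟩
  · rw [Category.assoc, ← hσ, ← Spec.map_comp, ← Spec.map_id]
    exact congrArg Spec.map (CommRingCat.hom_ext (RingHom.ext fun a ↦
      IsFractionRing.injective A K ((ht _).trans (hval a))))
  · rw [← Spec.map_comp_assoc, ← hφ]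
    exact congrArg (fun k ↦ Spec.map k ≫ X.fromSpecStalk z) (CommRingCat.hom_ext (RingHom.ext ht))

/-- Over a valuation ring, if no geometric point is lost at the closed point then rational points extend. -/
theorem exists_section_of_card_le {A : Type u} [CommRing A] [IsDomain A] [ValuationRing A] {K : Type u}
    [Field K] [Algebra A K] [IsFractionRing A K] {P : Scheme.{u}} (q : P ⟶ Spec (CommRingCat.of A))
    [IsSeparated q] [LocallyQuasiFinite q] [QuasiCompact q]
    (hop : ∀ z, q z = spt A → EGA43.IsUnivOpenAt q z)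
    (hn : MoreMor.nGeomConnComp q (genericPoint (Spec (CommRingCat.of A))) ≤ MoreMor.nGeomConnComp q (spt A))
    (x : Spec (CommRingCat.of K) ⟶ P)
    (hx : x ≫ q = Spec.map (CommRingCat.ofHom (algebraMap A K))) :
    ∃ s : Spec (CommRingCat.of A) ⟶ P, s ≫ q = 𝟙 _ ∧
      Spec.map (CommRingCat.ofHom (algebraMap A K)) ≫ s = x := by
  by_cases hcl : ∃ z, x (spt K) ⤳ z ∧ q z = spt A
  · obtain ⟨z, hz, hqz⟩ := hcl
    exact exists_section_of_specializes q x hx hz hqz
  exfalso
  let η := genericPoint (Spec (CommRingCat.of A))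
  let W : P.Opens := ⟨(closure {x (spt K)})ᶜ, isClosed_closure.isOpen_compl⟩
  let qW := W.ι ≫ q
  have hqx : q (x (spt K)) = η := by
    rw [← Scheme.Hom.comp_apply, hx]
    exact specMap_subtype_closedPoint _ (IsFractionRing.injective A K)
  -- the closed fibre lies in `W`
  have hclosed : (MoreMor.nGeomConnComp qW (spt A)) = MoreMor.nGeomConnComp q (spt A) := by
    rw [← acPt_apply (spt A), nGeomConnComp_eq, nGeomConnComp_eq]
    refine ENat.card_congr (Equiv.ofBijective (fun a => ⟨a.1 ≫ W.ι, (Category.assoc _ _ _).trans a.2⟩)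
      ⟨fun a b h => Subtype.ext ((cancel_mono W.ι).1 (congrArg Subtype.val h)), fun a => ?_⟩)
    have hr : Set.range a.1 ⊆ Set.range W.ι := by
      rintro _ ⟨w, rfl⟩
      rw [Scheme.Opens.range_ι]
      intro hw
      refine hcl ⟨a.1 w, specializes_iff_mem_closure.2 hw, ?_⟩
      rw [← Scheme.Hom.comp_apply, a.2, show w = spt _ from Subsingleton.elim _ _, acPt_apply]
    exact ⟨⟨IsOpenImmersion.lift W.ι a.1 hr, by rw [IsOpenImmersion.lift_fac_assoc]; exact a.2⟩,
      Subtype.ext (IsOpenImmersion.lift_fac _ _ _)⟩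
  -- lower semicontinuity
  have hle : MoreMor.nGeomConnComp q (spt A) ≤ MoreMor.nGeomConnComp qW η := by
    refine ENat.forall_natCast_le_iff_le.1 fun m hm => ?_
    have hN := le_nGeomConnComp_mem_nhds m qW (spt A) (fun w hw => ?_) (hclosed ▸ hm)
    · obtain ⟨U, hU, hUo, hU'⟩ := mem_nhds_iff.1 hN
      exact hU (((genericPoint_spec _).specializes trivial).mem_open hUo hU')
    · exact QHomeo.univOpenAt_comp (isUnivOpenAt_of_universallyOpen _ w) (hop _ hw)
  -- one geometric point over the generic point is lost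
  have hlt : MoreMor.nGeomConnComp qW η < MoreMor.nGeomConnComp q η := by
    let F := AlgebraicClosure K
    let a : Spec (CommRingCat.of F) ⟶ P := Spec.map (CommRingCat.ofHom (algebraMap K F)) ≫ x
    have ha : a (spt F) = x (spt K) := (Scheme.Hom.comp_apply _ _ _).trans
      (congrArg x (Subsingleton.elim (α := PrimeSpectrum K) _ _))
    have hη : (a ≫ q) (spt F) = η := by rw [Scheme.Hom.comp_apply, ha, hqx]
    rw [← hη, nGeomConnComp_eq, nGeomConnComp_eq]
    have hfin : Finite (GPts q (a ≫ q)) := by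
      rw [← ENat.card_lt_top, ← nGeomConnComp_eq]
      exact nGeomConnComp_lt_top q _
    let i : GPts qW (a ≫ q) → GPts q (a ≫ q) := fun b => ⟨b.1 ≫ W.ι, (Category.assoc _ _ _).trans b.2⟩
    have hi : Function.Injective i := fun b c h => Subtype.ext ((cancel_mono W.ι).1 (congrArg Subtype.val h))
    have hns : ¬ Function.Surjective i := fun hs => by
      obtain ⟨b, hb⟩ := hs ⟨a, rfl⟩
      have h1 : W.ι (b.1 (spt F)) = x (spt K) := ((Scheme.Hom.comp_apply _ _ _).symm.trans
        (congrArg (fun c : GPts q (a ≫ q) => c.1 (spt F)) hb)).trans ha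
      have h2 : W.ι (b.1 (spt F)) ∈ W := (b.1 (spt F)).2
      rw [h1] at h2
      exact h2 (subset_closure rfl)
    haveI := Finite.of_injective i hi
    rw [ENat.card_eq_coe_natCard, ENat.card_eq_coe_natCard, Nat.cast_lt]
    exact lt_of_le_of_ne (Nat.card_le_card_of_injective i hi) fun h =>
      hns ((Nat.bijective_iff_injective_and_card i).2 ⟨hi, h⟩).2
  exact absurd (hle.trans_lt hlt) (not_lt.2 hn)

/-- Rational points of a base change extend when the number of geometric points does not drop. -/
theorem exists_lift_of_card_le {X Y : Scheme.{u}} (f : X ⟶ Y) [IsSeparated f] [LocallyQuasiFinite f]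
    [QuasiCompact f] {A : Type u} [CommRing A] [IsDomain A] [ValuationRing A] {K : Type u}
    [Field K] [Algebra A K] [IsFractionRing A K] (g : Spec (CommRingCat.of A) ⟶ Y)
    (hop : ∀ x, f x = g (spt A) → EGA43.IsUnivOpenAt f x)
    (hn : MoreMor.nGeomConnComp f (g (genericPoint (Spec (CommRingCat.of A)))) ≤
      MoreMor.nGeomConnComp f (g (spt A)))
    (x : Spec (CommRingCat.of K) ⟶ pullback f g)
    (hx : x ≫ pullback.snd f g = Spec.map (CommRingCat.ofHom (algebraMap A K))) :
    ∃ s : Spec (CommRingCat.of A) ⟶ pullback f g, s ≫ pullback.snd f g = 𝟙 _ ∧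
      Spec.map (CommRingCat.ofHom (algebraMap A K)) ≫ s = x := by
  refine exists_section_of_card_le (pullback.snd f g) (fun z hz => ?_) ?_ x hx
  · refine QHomeo.univOpenAt_of_isPullback (hop (pullback.fst f g z) ?_) (IsPullback.of_hasPullback f g) z rfl
    rw [← Scheme.Hom.comp_apply, pullback.condition, Scheme.Hom.comp_apply, hz]
  · rw [(Triage.GeomCount.nGeom_baseChange f (pullback.snd f g) (pullback.fst f g) g
      (IsPullback.of_hasPullback f g) _).2, (Triage.GeomCount.nGeom_baseChange f (pullback.snd f g)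
      (pullback.fst f g) g (IsPullback.of_hasPullback f g) _).2]
    exact hn

theorem exists_proper_nhd_of_const {X Y : Scheme.{u}} (f : X ⟶ Y) [IsSeparated f] [LocallyQuasiFinite f]
    [LocallyOfFiniteType f] [QuasiCompact f] (U : Y.Opens)
    (hop : ∀ x, f x ∈ U → EGA43.IsUnivOpenAt f x)
    (hc : ∀ z ∈ U, ∀ z' ∈ U, MoreMor.nGeomConnComp f z ≤ MoreMor.nGeomConnComp f z') :
    IsProper (f ∣_ U) := by
  haveI : IsSeparated (f ∣_ U) := MorphismProperty.of_isPullback (isPullback_morphismRestrict f U).flip inferInstance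
  haveI : LocallyOfFiniteType (f ∣_ U) :=
    MorphismProperty.of_isPullback (isPullback_morphismRestrict f U).flip inferInstance
  haveI : QuasiCompact (f ∣_ U) := MorphismProperty.of_isPullback (isPullback_morphismRestrict f U).flip inferInstance
  haveI : UniversallyClosed (f ∣_ U) := by
    rw [UniversallyClosed.eq_valuativeCriterion]
    refine ⟨fun S => ?_, inferInstance⟩
    let g : Spec (CommRingCat.of S.R) ⟶ Y := S.i₂ ≫ U.ι
    have hgU : ∀ w, g w ∈ U := fun w => (S.i₂ w).2
    have w0 : S.i₁ ≫ (f ∣_ U) = Spec.map (CommRingCat.ofHom (algebraMap S.R S.K)) ≫ S.i₂ := S.commSq.w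
    let x : Spec (CommRingCat.of S.K) ⟶ pullback f g :=
      pullback.lift (S.i₁ ≫ (f ⁻¹ᵁ U).ι) (Spec.map (CommRingCat.ofHom (algebraMap S.R S.K))) (by
        rw [Category.assoc, ← morphismRestrict_ι, reassoc_of% w0])
    obtain ⟨s, hs1, hs2⟩ := exists_lift_of_card_le f g (fun x hx => hop x (hx ▸ hgU _))
      (hc _ (hgU _) _ (hgU _)) x (pullback.lift_snd _ _ _)
    have hl : (s ≫ pullback.fst f g) ≫ f = g := by rw [Category.assoc, pullback.condition, reassoc_of% hs1]
    have hr : Set.range (s ≫ pullback.fst f g) ⊆ Set.range (f ⁻¹ᵁ U).ι := by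
      rintro _ ⟨w, rfl⟩
      rw [Scheme.Opens.range_ι]
      show f ((s ≫ pullback.fst f g) w) ∈ U
      rw [← Scheme.Hom.comp_apply, hl]
      exact hgU w
    refine CommSq.HasLift.mk' ⟨IsOpenImmersion.lift (f ⁻¹ᵁ U).ι (s ≫ pullback.fst f g) hr, ?_, ?_⟩
    · rw [← cancel_mono (f ⁻¹ᵁ U).ι, Category.assoc, IsOpenImmersion.lift_fac, reassoc_of% hs2]
      exact pullback.lift_fst _ _ _
    · rw [← cancel_mono U.ι, Category.assoc, morphismRestrict_ι, IsOpenImmersion.lift_fac_assoc, hl]
  exact {}

theorem proper_nhd_of_univOpenAt_fibre {X Y : Scheme.{u}} [IsLocallyNoetherian Y] (f : X ⟶ Y)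
    [IsSeparated f] [LocallyQuasiFinite f] [LocallyOfFiniteType f] [QuasiCompact f] (y : Y)
    (h : ∀ x : X, f x = y → EGA43.IsUnivOpenAt f x)
    (hc : ∃ V ∈ nhds y, ∀ z ∈ V, MoreMor.nGeomConnComp f z = MoreMor.nGeomConnComp f y) :
    ∃ U : Y.Opens, y ∈ U ∧ IsProper (f ∣_ U) := by
  obtain ⟨V, hV, hVc⟩ := hc
  obtain ⟨V', hV', hV'o, hyV'⟩ := mem_nhds_iff.1 hV
  obtain ⟨_, ⟨(W : Y.Opens), (hW : IsAffineOpen W), rfl⟩, hyW, hWV⟩ :=
    Y.isBasis_affineOpens.exists_subset_of_mem_open hyV' hV'o
  haveI : CompactSpace W.toScheme := isCompact_iff_compactSpace.mp hW.isCompact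
  haveI : IsLocallyNoetherian W.toScheme := LocallyOfFiniteType.isLocallyNoetherian W.ι
  haveI : IsNoetherian W.toScheme := {}
  let f' := f ∣_ W
  haveI : IsSeparated f' := MorphismProperty.of_isPullback (isPullback_morphismRestrict f W).flip inferInstance
  haveI : LocallyQuasiFinite f' := inferInstance
  haveI : LocallyOfFiniteType f' :=
    MorphismProperty.of_isPullback (isPullback_morphismRestrict f W).flip inferInstance
  haveI : QuasiCompact f' := MorphismProperty.of_isPullback (isPullback_morphismRestrict f W).flip inferInstance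
  let y' : W.toScheme := ⟨y, hyW⟩
  have hn : ∀ z : W.toScheme, MoreMor.nGeomConnComp f' z = MoreMor.nGeomConnComp f (W.ι z) := fun z =>
    (Triage.GeomCount.nGeom_baseChange f f' (f ⁻¹ᵁ W).ι W.ι (isPullback_morphismRestrict f W).flip z).2
  have H : DVRSections f' Set.univ y' := by
    intro A _ _ _ g hgc x' _ hx'2 hb
    let m : Spec (CommRingCat.of (FractionRing A)) ⟶ Spec (CommRingCat.of A) :=
      Spec.map (CommRingCat.ofHom (algebraMap A (FractionRing A)))
    have hm : m (spt _) = pullback.snd f' g x' :=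
      (specMap_subtype_closedPoint _ (IsFractionRing.injective A (FractionRing A))).trans hx'2.symm
    obtain ⟨φ, hφ⟩ := exists_desc m hm
    haveI := isIso_residueFieldMap_of_bijective (pullback.snd f' g) x' hb
    let τ : Spec (CommRingCat.of (FractionRing A)) ⟶ pullback f' g :=
      Spec.map (inv ((pullback.snd f' g).residueFieldMap x') ≫ φ) ≫ (pullback f' g).fromSpecResidueField x'
    have hτ : τ (spt _) = x' := (Scheme.Hom.comp_apply _ _ _).trans (Scheme.fromSpecResidueField_apply _ _)
    have hτ2 : τ ≫ pullback.snd f' g = m := by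
      rw [Category.assoc, ← Scheme.Hom.SpecMap_residueFieldMap_fromSpecResidueField,
        ← Spec.map_comp_assoc, IsIso.hom_inv_id_assoc, hφ]
    have hop : ∀ x, f' x = g (spt A) → EGA43.IsUnivOpenAt f' x := fun x hx => by
      refine QHomeo.univOpenAt_of_isPullback (h ((f ⁻¹ᵁ W).ι x) ?_) (isPullback_morphismRestrict f W).flip x rfl
      rw [← Scheme.Hom.comp_apply, ← morphismRestrict_ι, Scheme.Hom.comp_apply, hx]
      exact congrArg W.ι hgc
    obtain ⟨s, hs1, hs2⟩ := exists_lift_of_card_le f' g hop (le_of_eq (by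
      rw [hn, hn, show g (spt A) = y' from hgc]
      exact hVc _ (hV' (hWV (g _).2)))) τ hτ2
    refine ⟨s, hs1, m (spt _), ?_⟩
    rw [← Scheme.Hom.comp_apply, hs2, hτ]
  obtain ⟨U, hyU, hC, hP⟩ := exists_proper_of_dvrSections f' Set.univ
    (fun _ _ _ => Set.mem_univ _) y' H
  let j := (Scheme.IdealSheafData.vanishingIdeal
    (⟨(f' ⁻¹ᵁ U).ι.base ⁻¹' closure Set.univ, hC⟩ : TopologicalSpace.Closeds ↥(f' ⁻¹ᵁ U).toScheme)).subschemeι
  haveI : Surjective j := ⟨fun z => by
    have h1 : z ∈ Set.range j := by rw [H23.RedSub.range_vanishingIdeal]; simp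
    exact h1⟩
  haveI : UniversallyClosed (j ≫ (f' ∣_ U)) := hP.toUniversallyClosed
  haveI : UniversallyClosed (f' ∣_ U) := UniversallyClosed.of_comp_surjective j (f' ∣_ U)
  haveI : IsSeparated (f' ∣_ U) := MorphismProperty.of_isPullback (isPullback_morphismRestrict f' U).flip inferInstance
  haveI : LocallyOfFiniteType (f' ∣_ U) :=
    MorphismProperty.of_isPullback (isPullback_morphismRestrict f' U).flip inferInstance
  have hP' : IsProper (f' ∣_ U) := {}
  refine ⟨W.ι ''ᵁ U, ⟨y', hyU, rfl⟩, ?_⟩
  exact (MorphismProperty.arrow_mk_iso_iff @IsProper (morphismRestrictRestrict f W U)).1 hP'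

end Groth.Agent.H1Near
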