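import Groth.Agent.H1Near.Geom
import Groth.Agent.MorLib.GeomFibre
import Groth.Agent.Proj16.DVRPath
import Mathlib

/-!
# Discrete valuation rings realizing the geometric points of quasi-finite morphisms
-/

universe u

open CategoryTheory CategoryTheory.Limits AlgebraicGeometry TopologicalSpace IsLocalRing

noncomputable section

namespace Groth.Agent.H1Near

section Field

variable {X Y : Scheme.{u}}

theorem comp_specMap_injective {K Ω : Type u} [Field K] [Field Ω] (j : K →+* Ω) {Z : Scheme.{u}}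
    {u v : Spec (CommRingCat.of K) ⟶ Z}
    (e : Spec.map (CommRingCat.ofHom j) ≫ u = Spec.map (CommRingCat.ofHom j) ≫ v) : u = v := by
  have hu : u (spt K) = v (spt K) := by
    have h := congrArg (fun m : Spec (CommRingCat.of Ω) ⟶ Z => m (spt Ω)) e
    simp only [Scheme.Hom.comp_apply] at h
    rwa [Subsingleton.elim (α := PrimeSpectrum K) (Spec.map (CommRingCat.ofHom j) (spt Ω)) (spt K)] at h
  obtain ⟨x, hx⟩ : ∃ x, v (spt K) = x := ⟨_, rfl⟩
  obtain ⟨φ, rfl⟩ := exists_desc u (hu.trans hx)
  obtain ⟨ψ, rfl⟩ := exists_desc v hx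
  rw [← Spec.map_comp_assoc, ← Spec.map_comp_assoc, cancel_mono] at e
  have h := Spec.map_injective e
  congr 2
  refine CommRingCat.hom_ext (RingHom.ext fun t => j.injective ?_)
  exact ConcreteCategory.congr_hom h t

/-- Composition of geometric points with an extension of fields. -/
def gExt (f : X ⟶ Y) {K Ω : Type u} [Field K] [Field Ω] (j : K →+* Ω) (gK : Spec (CommRingCat.of K) ⟶ Y)
    (a : GPts f gK) : GPts f (Spec.map (CommRingCat.ofHom j) ≫ gK) :=
  ⟨Spec.map (CommRingCat.ofHom j) ≫ a.1, by rw [Category.assoc, a.2]⟩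

theorem gExt_injective (f : X ⟶ Y) {K Ω : Type u} [Field K] [Field Ω] (j : K →+* Ω)
    (gK : Spec (CommRingCat.of K) ⟶ Y) : Function.Injective (gExt f j gK) :=
  fun _ _ h => Subtype.ext (comp_specMap_injective j (congrArg Subtype.val h))

/-- All geometric points over `gK` are rational. -/
def AllRational (f : X ⟶ Y) {K : Type u} [Field K] (gK : Spec (CommRingCat.of K) ⟶ Y) : Prop :=
  ENat.card (GPts f gK) = MoreMor.nGeomConnComp f (gK (spt K))

theorem apply_specMap {K Ω : Type u} [Field K] [Field Ω] (j : K →+* Ω) (gK : Spec (CommRingCat.of K) ⟶ Y) :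
    (Spec.map (CommRingCat.ofHom j) ≫ gK) (spt Ω) = gK (spt K) :=
  (Scheme.Hom.comp_apply _ _ _).trans (congrArg gK (Subsingleton.elim (α := PrimeSpectrum K) _ _))

theorem allRational_of_surjective (f : X ⟶ Y) [LocallyQuasiFinite f] {K Ω : Type u} [Field K] [Field Ω]
    [IsAlgClosed Ω] (j : K →+* Ω) (gK : Spec (CommRingCat.of K) ⟶ Y)
    (h : Function.Surjective (gExt f j gK)) : AllRational f gK := by
  show ENat.card _ = _
  rw [← apply_specMap j gK, nGeomConnComp_eq]
  exact ENat.card_congr (Equiv.ofBijective _ ⟨gExt_injective f j gK, h⟩)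

theorem gExt_surjective_of_allRational (f : X ⟶ Y) [LocallyQuasiFinite f] [QuasiCompact f] {K Ω : Type u}
    [Field K] [Field Ω] [IsAlgClosed Ω] (j : K →+* Ω) (gK : Spec (CommRingCat.of K) ⟶ Y)
    (h : AllRational f gK) : Function.Surjective (gExt f j gK) := by
  unfold AllRational at h
  rw [← apply_specMap j gK, nGeomConnComp_eq] at h
  haveI : Finite (GPts f (Spec.map (CommRingCat.ofHom j) ≫ gK)) := by
    rw [← ENat.card_lt_top, ← nGeomConnComp_eq]
    exact nGeomConnComp_lt_top f _
  haveI := Finite.of_injective _ (gExt_injective f j gK)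
  rw [ENat.card_eq_coe_natCard, ENat.card_eq_coe_natCard, Nat.cast_inj] at h
  exact ((Nat.bijective_iff_injective_and_card _).2 ⟨gExt_injective f j gK, h⟩).2

theorem allRational_extend (f : X ⟶ Y) [LocallyQuasiFinite f] [QuasiCompact f] {K L : Type u} [Field K] [Field L]
    (j : K →+* L) (gK : Spec (CommRingCat.of K) ⟶ Y) (h : AllRational f gK) :
    AllRational f (Spec.map (CommRingCat.ofHom j) ≫ gK) := by
  let Ω := AlgebraicClosure L
  refine allRational_of_surjective f (algebraMap L Ω) _ fun a => ?_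
  obtain ⟨b, hb⟩ := gExt_surjective_of_allRational f ((algebraMap L Ω).comp j) gK h
    ⟨a.1, by rw [CommRingCat.ofHom_comp, Spec.map_comp, Category.assoc]; exact a.2⟩
  refine ⟨gExt f j gK b, Subtype.ext ?_⟩
  show Spec.map _ ≫ Spec.map _ ≫ b.1 = a.1
  rw [← Spec.map_comp_assoc, ← CommRingCat.ofHom_comp]
  exact congrArg Subtype.val hb

theorem card_pullback_of_allRational (f : X ⟶ Y) [LocallyQuasiFinite f] [QuasiCompact f] {K : Type u} [Field K]
    (gK : Spec (CommRingCat.of K) ⟶ Y) (h : AllRational f gK) :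
    ENat.card ↥(pullback f gK) = MoreMor.nGeomConnComp f (gK (spt K)) := by
  refine Eq.trans ?_ h
  refine (ENat.card_congr (Equiv.ofBijective
    (fun a : GPts f gK => (pullback.lift a.1 (𝟙 _) (by rw [a.2, Category.id_comp]) :
      Spec (CommRingCat.of K) ⟶ pullback f gK) (spt K)) ⟨?_, ?_⟩)).symm
  · intro a b e
    have := section_ext' (pullback.snd f gK) (pullback.lift_snd _ _ _) (pullback.lift_snd _ _ _) e
    exact Subtype.ext ((pullback.lift_fst _ _ _).symm.trans
      ((congrArg (· ≫ pullback.fst f gK) this).trans (pullback.lift_fst _ _ _)))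
  · intro z
    let Ω := AlgebraicClosure K
    let J : Spec (CommRingCat.of Ω) ⟶ Spec (CommRingCat.of K) := Spec.map (CommRingCat.ofHom (algebraMap K Ω))
    haveI : Surjective J := ⟨fun s => ⟨spt Ω, Subsingleton.elim (α := PrimeSpectrum K) _ _⟩⟩
    obtain ⟨w, hw⟩ := (pullback.fst (pullback.snd f gK) J).surjective z
    obtain ⟨s, hs, hsw⟩ := exists_section_through (pullback.snd (pullback.snd f gK) J) w
    let t : Spec (CommRingCat.of Ω) ⟶ pullback f gK := s ≫ pullback.fst (pullback.snd f gK) J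
    have ht : t ≫ pullback.snd f gK = J := by
      rw [Category.assoc, pullback.condition, reassoc_of% hs]
    obtain ⟨b, hb⟩ := gExt_surjective_of_allRational f (algebraMap K Ω) gK h
      ⟨t ≫ pullback.fst f gK, by rw [Category.assoc, pullback.condition, reassoc_of% ht]⟩
    refine ⟨b, ?_⟩
    have he : J ≫ pullback.lift b.1 (𝟙 _) (by rw [b.2, Category.id_comp]) = t := by
      apply pullback.hom_ext
      · rw [Category.assoc, pullback.lift_fst]
        exact congrArg Subtype.val hb
      · rw [Category.assoc, pullback.lift_snd, Category.comp_id, ht]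
    show pullback.lift b.1 (𝟙 _) _ (spt K) = z
    rw [← hw, ← hsw, ← Subsingleton.elim (α := PrimeSpectrum K) (J (spt Ω)) (spt K), ← Scheme.Hom.comp_apply,
      he, Scheme.Hom.comp_apply]

/-- Finitely many elements control rationality. -/
theorem exists_finset_allRational (f : X ⟶ Y) [LocallyQuasiFinite f] [LocallyOfFiniteType f] [QuasiCompact f]
    {Ω : Type u} [Field Ω] [IsAlgClosed Ω] (τ : Spec (CommRingCat.of Ω) ⟶ Y) :
    ∃ S : Finset Ω, (∀ s ∈ S, ∃ (φ : Y.residueField (τ (spt Ω)) ⟶ CommRingCat.of Ω),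
        Spec.map φ ≫ Y.fromSpecResidueField _ = τ ∧ φ.hom.IsIntegralElem s) ∧
      ∀ (K : Type u) [Field K] (j : K →+* Ω) (gK : Spec (CommRingCat.of K) ⟶ Y),
        Spec.map (CommRingCat.ofHom j) ≫ gK = τ → (↑S : Set Ω) ⊆ Set.range j → AllRational f gK := by
  classical
  haveI : Finite (GPts f τ) := by
    rw [← ENat.card_lt_top, ← nGeomConnComp_eq]
    exact nGeomConnComp_lt_top f _
  haveI := Fintype.ofFinite (GPts f τ)
  obtain ⟨φ0, hφ0⟩ := exists_desc τ (rfl : τ (spt Ω) = _)
  have key : ∀ a : GPts f τ, ∃ S : Finset Ω, (∀ s ∈ S, φ0.hom.IsIntegralElem s) ∧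
      ∀ (K : Type u) [Field K] (j : K →+* Ω) (gK : Spec (CommRingCat.of K) ⟶ Y),
        Spec.map (CommRingCat.ofHom j) ≫ gK = τ → (↑S : Set Ω) ⊆ Set.range j →
          ∃ b : GPts f gK, Spec.map (CommRingCat.ofHom j) ≫ b.1 = a.1 := by
    intro a
    let x := a.1 (spt Ω)
    have hfx : f x = τ (spt Ω) := (Scheme.Hom.comp_apply _ _ _).symm.trans (by rw [a.2])
    obtain ⟨φ, hφ⟩ := exists_desc a.1 (rfl : a.1 (spt Ω) = x)
    let r := f.residueFieldMap x
    have hr : Spec.map (r ≫ φ) ≫ Y.fromSpecResidueField (f x) = τ := by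
      rw [Spec.map_comp, Category.assoc, Scheme.Hom.SpecMap_residueFieldMap_fromSpecResidueField, ← Category.assoc,
        hφ, a.2]
    have hfin : r.hom.Finite := MorLib.GF.finite_residueFieldMap f x
    letI := r.hom.toAlgebra
    haveI : Module.Finite (Y.residueField (f x)) (X.residueField x) := hfin
    obtain ⟨G, hG⟩ := (Module.Finite.fg_top : (⊤ : Submodule (Y.residueField (f x)) (X.residueField x)).FG)
    refine ⟨G.image φ.hom, fun s hs => ?_, fun K _ j gK hj hS => ?_⟩
    · obtain ⟨t, -, rfl⟩ := Finset.mem_image.1 hs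
      clear_value r
      revert hr
      have hφ0' := hφ0
      clear hφ0
      revert φ0
      rw [← hfx]
      intro φ0 hφ0 hr
      have he : r ≫ φ = φ0 :=
        Spec.map_injective ((cancel_mono (Y.fromSpecResidueField _)).1 (hr.trans hφ0.symm))
      obtain ⟨p, hp, hpt⟩ := Algebra.IsIntegral.isIntegral (R := Y.residueField (f x)) t
      refine ⟨p, hp, ?_⟩
      rw [← he, CommRingCat.hom_comp, ← Polynomial.hom_eval₂]
      exact (congrArg φ.hom hpt).trans (map_zero _)
    · have hgx : gK (spt K) = f x := by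
        rw [hfx, ← hj, apply_specMap]
      obtain ⟨ψ, hψ⟩ := exists_desc gK hgx
      have he : r ≫ φ = ψ ≫ CommRingCat.ofHom j := by
        refine Spec.map_injective ((cancel_mono (Y.fromSpecResidueField _)).1 ?_)
        rw [hr]
        conv_rhs => rw [Spec.map_comp, Category.assoc, hψ, hj]
      have hmem : ∀ t, φ.hom t ∈ j.range := by
        intro t
        have ht : t ∈ Submodule.span (Y.residueField (f x)) (G : Set (X.residueField x)) := hG ▸ Submodule.mem_top
        induction ht using Submodule.span_induction with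
        | mem t ht => exact hS (Finset.mem_coe.2 (Finset.mem_image_of_mem _ ht))
        | zero => rw [map_zero]; exact zero_mem _
        | add p q _ _ hp hq => rw [map_add]; exact add_mem hp hq
        | smul c p _ hp =>
          rw [Algebra.smul_def, map_mul]
          refine mul_mem ⟨ψ.hom c, ?_⟩ hp
          exact (ConcreteCategory.congr_hom he c).symm
      let e := RingEquiv.ofBijective j.rangeRestrict ⟨fun p q h => j.injective (congrArg Subtype.val h),
        j.rangeRestrict_surjective⟩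
      let φ' : X.residueField x ⟶ CommRingCat.of K :=
        CommRingCat.ofHom (e.symm.toRingHom.comp (φ.hom.codRestrict j.range hmem))
      have hφ' : φ' ≫ CommRingCat.ofHom j = φ := by
        refine CommRingCat.hom_ext (RingHom.ext fun t => ?_)
        exact congrArg Subtype.val (e.apply_symm_apply ⟨φ.hom t, hmem t⟩)
      have hb : Spec.map (CommRingCat.ofHom j) ≫ Spec.map φ' ≫ X.fromSpecResidueField x = a.1 := by
        rw [← Spec.map_comp_assoc, hφ', hφ]
      refine ⟨⟨Spec.map φ' ≫ X.fromSpecResidueField x, comp_specMap_injective j ?_⟩, hb⟩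
      rw [← Category.assoc, hb, a.2, hj]
  choose S hint hS using key
  refine ⟨Finset.univ.biUnion S, fun s hs => ⟨φ0, hφ0, ?_⟩, fun K _ j gK hj hsub => ?_⟩
  · obtain ⟨a, -, ha⟩ := Finset.mem_biUnion.1 hs
    exact hint a s ha
  · refine allRational_of_surjective f j gK fun a => ?_
    obtain ⟨b, hb⟩ := hS ⟨a.1, a.2.trans hj⟩ K j gK hj
      (fun s hs => hsub (Finset.mem_coe.2 (Finset.mem_biUnion.2 ⟨⟨a.1, a.2.trans hj⟩, Finset.mem_univ _, hs⟩)))
    exact ⟨b, Subtype.ext hb⟩

end Field

section Residue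

open Polynomial

theorem exists_dvr_monogenic {A : Type u} [CommRing A] [IsDomain A] [IsDiscreteValuationRing A] {Ω : Type u}
    [Field Ω] (ψ : A →+* Ω) (hψ : RingHom.ker ψ = maximalIdeal A) (a : Ω) (ha : ψ.IsIntegralElem a) :
    ∃ (B : Type u) (_ : CommRing B) (_ : IsDomain B) (_ : IsDiscreteValuationRing B) (i : A →+* B) (χ : B →+* Ω),
      Function.Injective i ∧ χ.comp i = ψ ∧ RingHom.ker χ = maximalIdeal B ∧ a ∈ Set.range χ := by
  let k := ResidueField A
  let ψk : k →+* Ω := Ideal.Quotient.lift (maximalIdeal A) ψ fun t ht => by rwa [← RingHom.mem_ker, hψ]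
  letI := ψk.toAlgebra
  have hint : IsIntegral k a := by
    obtain ⟨p, hp, hpa⟩ := ha
    refine ⟨p.map (residue A), hp.map _, ?_⟩
    rw [eval₂_map]
    exact hpa
  obtain ⟨F, hFm, hFd, hFmon⟩ := lifts_and_natDegree_eq_and_monic (f := residue A) (p := minpoly k a)
    (map_surjective _ residue_surjective _) (minpoly.monic hint)
  have hFirr : Irreducible F :=
    hFmon.irreducible_of_irreducible_map (residue A) F (hFm ▸ minpoly.irreducible hint)
  have hFprime : Prime F := (UniqueFactorizationMonoid.irreducible_iff_prime).1 hFirr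
  let B := AdjoinRoot F
  haveI : IsDomain B := AdjoinRoot.isDomain_of_prime hFprime
  have hroot : eval₂ ψ a F = 0 := by
    have h := minpoly.aeval k a
    rw [← hFm, aeval_def, eval₂_map] at h
    exact h
  let χ : B →+* Ω := AdjoinRoot.lift ψ a hroot
  obtain ⟨ϖ, hϖ⟩ := IsDiscreteValuationRing.exists_irreducible A
  have hm := hϖ.maximalIdeal_eq
  let i : A →+* B := AdjoinRoot.of F
  have hdeg : F.degree ≠ 0 := by
    rw [degree_eq_natDegree hFmon.ne_zero, hFd]
    exact_mod_cast (minpoly.natDegree_pos hint).ne'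
  have hi : Function.Injective i := AdjoinRoot.of.injective_of_degree_ne_zero hdeg
  let P : Ideal B := Ideal.span {i ϖ}
  have hPker : P = RingHom.ker χ := by
    refine le_antisymm ?_ fun b hb => ?_
    · rw [Ideal.span_le, Set.singleton_subset_iff, SetLike.mem_coe, RingHom.mem_ker]
      show χ (AdjoinRoot.of F ϖ) = 0
      rw [AdjoinRoot.lift_of, ← RingHom.mem_ker, hψ, hm]
      exact Ideal.mem_span_singleton_self _
    · obtain ⟨g, rfl⟩ := AdjoinRoot.mk_surjective b
      rw [RingHom.mem_ker, AdjoinRoot.lift_mk] at hb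
      have h1 : minpoly k a ∣ g.map (residue A) := minpoly.dvd k a (by
        rw [aeval_def, eval₂_map]; exact hb)
      rw [← hFm] at h1
      obtain ⟨c, hc⟩ := h1
      obtain ⟨c', rfl⟩ := map_surjective (residue A) residue_surjective c
      have h2 : g - F * c' ∈ RingHom.ker (mapRingHom (residue A)) := by
        rw [RingHom.mem_ker, coe_mapRingHom, Polynomial.map_sub, Polynomial.map_mul, hc, sub_self]
      rw [ker_mapRingHom, show RingHom.ker (residue A) = Ideal.span {ϖ} from (Ideal.mk_ker).trans hm,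
        Ideal.map_span, Set.image_singleton, Ideal.mem_span_singleton'] at h2
      obtain ⟨d, hd⟩ := h2
      refine Ideal.mem_span_singleton'.2 ⟨AdjoinRoot.mk F d, ?_⟩
      have h3 := congrArg (AdjoinRoot.mk F) hd
      rw [map_mul, map_sub, map_mul, AdjoinRoot.mk_self, zero_mul, sub_zero, AdjoinRoot.mk_C] at h3
      exact h3
  have hkerψ : (RingHom.ker χ).comap i = maximalIdeal A := by
    rw [← hψ]
    ext t
    rw [Ideal.mem_comap, RingHom.mem_ker, RingHom.mem_ker]
    show χ (AdjoinRoot.of F t) = 0 ↔ _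
    rw [AdjoinRoot.lift_of]
  haveI : (RingHom.ker χ).IsPrime := RingHom.ker_isPrime χ
  haveI : Module.Finite A B := hFmon.finite_adjoinRoot
  have hmax : (RingHom.ker χ).IsMaximal := by
    refine Ideal.isMaximal_of_isIntegral_of_isMaximal_comap (R := A) _ ?_
    rw [show (algebraMap A B) = i from rfl, hkerψ]
    exact IsLocalRing.maximalIdeal.isMaximal A
  haveI : IsLocalRing B := IsLocalRing.of_unique_max_ideal ⟨RingHom.ker χ, hmax, fun M hM => by
    haveI := hM
    have h1 : M.comap (algebraMap A B) = maximalIdeal A :=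
      IsLocalRing.eq_maximalIdeal (Ideal.isMaximal_comap_of_isIntegral_of_isMaximal M)
    have h2 : RingHom.ker χ ≤ M := by
      rw [← hPker, Ideal.span_le, Set.singleton_subset_iff]
      show i ϖ ∈ M
      have : ϖ ∈ M.comap (algebraMap A B) := by rw [h1, hm]; exact Ideal.mem_span_singleton_self _
      exact this
    exact (hmax.eq_of_le hM.ne_top h2).symm⟩
  have hmB : maximalIdeal B = RingHom.ker χ := (IsLocalRing.eq_maximalIdeal hmax).symm
  have hnf : ¬ IsField B := by
    rw [IsLocalRing.isField_iff_maximalIdeal_eq, hmB, ← hPker, Ideal.span_singleton_eq_bot]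
    exact fun h => hϖ.ne_zero (hi (by rw [h, map_zero]))
  haveI : IsDiscreteValuationRing B :=
    (((IsDiscreteValuationRing.TFAE B hnf).out 0 4) :
      IsDiscreteValuationRing B ↔ (maximalIdeal B).IsPrincipal).2 ⟨⟨i ϖ, by rw [hmB, ← hPker]⟩⟩
  refine ⟨B, inferInstance, inferInstance, inferInstance, i, χ, hi, ?_, hmB.symm, AdjoinRoot.root F, ?_⟩
  · exact RingHom.ext fun t => AdjoinRoot.lift_of hroot
  · exact AdjoinRoot.lift_root hroot

theorem exists_dvr_residue {A : Type u} [CommRing A] [IsDomain A] [IsDiscreteValuationRing A] {Ω : Type u}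
    [Field Ω] (ψ : A →+* Ω) (hψ : RingHom.ker ψ = maximalIdeal A) (S : Finset Ω)
    (hS : ∀ s ∈ S, ψ.IsIntegralElem s) :
    ∃ (B : Type u) (_ : CommRing B) (_ : IsDomain B) (_ : IsDiscreteValuationRing B) (i : A →+* B) (χ : B →+* Ω),
      Function.Injective i ∧ χ.comp i = ψ ∧ RingHom.ker χ = maximalIdeal B ∧ (↑S : Set Ω) ⊆ Set.range χ := by
  classical
  induction S using Finset.induction_on with
  | empty => exact ⟨A, inferInstance, inferInstance, inferInstance, RingHom.id A, ψ, Function.injective_id,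
      RingHom.comp_id ψ, hψ, by simp⟩
  | insert s S hs ih =>
    obtain ⟨B, _, _, _, i, χ, hi, hχ, hk, hsub⟩ := ih fun t ht => hS t (Finset.mem_insert_of_mem ht)
    have hint : χ.IsIntegralElem s := by
      obtain ⟨p, hp, hps⟩ := hS s (Finset.mem_insert_self s S)
      exact ⟨p.map i, hp.map i, by rw [eval₂_map, hχ]; exact hps⟩
    obtain ⟨B', _, _, _, i', χ', hi', hχ', hk', hmem⟩ := exists_dvr_monogenic χ hk s hint
    refine ⟨B', inferInstance, inferInstance, inferInstance, i'.comp i, χ', hi'.comp hi,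
      by rw [← RingHom.comp_assoc, hχ', hχ], hk', ?_⟩
    rw [Finset.coe_insert, Set.insert_subset_iff]
    refine ⟨hmem, fun t ht => ?_⟩
    obtain ⟨b, rfl⟩ := hsub ht
    exact ⟨i' b, by rw [← RingHom.comp_apply, hχ']⟩

end Residue

theorem nGeomConnComp_eq_card_fiber {X Y : Scheme.{u}} (f : X ⟶ Y) [LocallyQuasiFinite f] [QuasiCompact f]
    {B : Type u} [CommRing B] (g : Spec (CommRingCat.of B) ⟶ Y) (t : ↥(Spec (CommRingCat.of B))) {K : Type u}
    [Field K] (j : (Spec (CommRingCat.of B)).residueField t ⟶ CommRingCat.of K) (hj : Function.Bijective j.hom)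
    (h : AllRational f (Spec.map j ≫ (Spec (CommRingCat.of B)).fromSpecResidueField t ≫ g)) :
    MoreMor.nGeomConnComp f (g t) = ENat.card ↥((pullback.snd f g).fiber t) := by
  haveI : IsIso j := (ConcreteCategory.isIso_iff_bijective _).2 hj
  let b := (Spec (CommRingCat.of B)).fromSpecResidueField t
  have h1 := card_pullback_of_allRational f _ h
  rw [show (Spec.map j ≫ b ≫ g) (spt K) = g t by
    rw [← Category.assoc, Scheme.Hom.comp_apply, Scheme.Hom.comp_apply, Scheme.fromSpecResidueField_apply]] at h1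
  rw [← h1]
  refine ENat.card_congr ?_
  let e1 : pullback f (Spec.map j ≫ b ≫ g) ≅ pullback f (b ≫ g) :=
    @asIso _ _ _ _ (pullback.map f (Spec.map j ≫ b ≫ g) f (b ≫ g) (𝟙 X) (Spec.map j) (𝟙 Y) (by simp) (by simp))
      (pullback.map_isIso _ _ _ _ _ _ _ _ _)
  exact (e1 ≪≫ (pullbackLeftPullbackSndIso f g b).symm).schemeIsoToHomeo.toEquiv

theorem exists_residueField_hom {B : Type u} [CommRing B] {K : Type u} [Field K] (χ : B →+* K)
    (hK : ∀ t : K, ∃ a b : B, t = χ a / χ b) {t : ↥(Spec (CommRingCat.of B))}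
    (ht : Spec.map (CommRingCat.ofHom χ) (spt K) = t) :
    ∃ j : (Spec (CommRingCat.of B)).residueField t ⟶ CommRingCat.of K, Function.Bijective j.hom ∧
      Spec.map j ≫ (Spec (CommRingCat.of B)).fromSpecResidueField t = Spec.map (CommRingCat.ofHom χ) := by
  obtain ⟨j, hj⟩ := exists_desc (Spec.map (CommRingCat.ofHom χ)) ht
  refine ⟨j, ⟨RingHom.injective _, ?_⟩, hj⟩
  haveI : t.asIdeal.IsPrime := t.isPrime
  rw [← Scheme.Spec.map_residueFieldIso_inv_eq_fromSpecResidueField, ← Spec.map_comp, ← Spec.map_comp] at hj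
  have h := Spec.map_injective hj
  intro z
  obtain ⟨a, b, rfl⟩ := hK z
  let μ := CommRingCat.ofHom (algebraMap B t.asIdeal.ResidueField) ≫
    (Scheme.Spec.residueFieldIso (CommRingCat.of B) t).inv
  have hμ : ∀ r, j.hom (μ.hom r) = χ r := fun r => ConcreteCategory.congr_hom h r
  exact ⟨μ.hom a / μ.hom b, by rw [map_div₀, hμ, hμ]⟩

theorem card_fiber_closed {X Y : Scheme.{u}} (f : X ⟶ Y) [LocallyQuasiFinite f] [QuasiCompact f]
    {B : Type u} [CommRing B] [IsLocalRing B] (g : Spec (CommRingCat.of B) ⟶ Y) {Ω : Type u} [Field Ω]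
    [IsAlgClosed Ω] (χ : B →+* Ω) (hker : RingHom.ker χ = maximalIdeal B) (S : Finset Ω)
    (hsub : (↑S : Set Ω) ⊆ Set.range χ)
    (hS : ∀ (K : Type u) [Field K] (j : K →+* Ω) (gK : Spec (CommRingCat.of K) ⟶ Y),
        Spec.map (CommRingCat.ofHom j) ≫ gK = Spec.map (CommRingCat.ofHom χ) ≫ g →
          (↑S : Set Ω) ⊆ Set.range j → AllRational f gK) :
    MoreMor.nGeomConnComp f (g (spt B)) = ENat.card ↥((pullback.snd f g).fiber (spt B)) := by
  let jk : ResidueField B →+* Ω :=
    Ideal.Quotient.lift (maximalIdeal B) χ fun t ht => by rwa [← RingHom.mem_ker, hker]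
  have hjk : jk.comp (residue B) = χ := RingHom.ext fun t => rfl
  obtain ⟨j, hj, hje⟩ := exists_residueField_hom (residue B) (fun z => by
      obtain ⟨a, rfl⟩ := residue_surjective z
      exact ⟨a, 1, by simp⟩) (t := spt B) (PrimeSpectrum.ext (by
      show Ideal.comap (residue B) (maximalIdeal (ResidueField B)) = maximalIdeal B
      rw [maximalIdeal_eq_bot, ← RingHom.ker_eq_comap_bot, IsLocalRing.ker_residue]))
  refine nGeomConnComp_eq_card_fiber f g (spt B) j hj ?_
  rw [← Category.assoc, hje]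
  refine hS (ResidueField B) jk _ ?_ fun s hs => ?_
  · rw [← Spec.map_comp_assoc, ← CommRingCat.ofHom_comp, hjk]
  · obtain ⟨b, rfl⟩ := hsub hs
    exact ⟨residue B b, rfl⟩

theorem card_fiber_generic {X Y : Scheme.{u}} (f : X ⟶ Y) [LocallyQuasiFinite f] [QuasiCompact f]
    {B : Type u} [CommRing B] [IsDomain B] {V : Type u} [CommRing V] [IsDomain V] {K' : Type u} [Field K']
    [Algebra V K'] [IsFractionRing V K'] (i : V →+* B) (hi : Function.Injective i)
    (g0 : Spec (CommRingCat.of V) ⟶ Y) (gK' : Spec (CommRingCat.of K') ⟶ Y)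
    (hg : Spec.map (CommRingCat.ofHom (algebraMap V K')) ≫ g0 = gK') (hK' : AllRational f gK') :
    (Spec.map (CommRingCat.ofHom i) ≫ g0) (genericPoint (Spec (CommRingCat.of B))) = gK' (spt K') ∧
    MoreMor.nGeomConnComp f ((Spec.map (CommRingCat.ofHom i) ≫ g0) (genericPoint (Spec (CommRingCat.of B)))) =
      ENat.card ↥((pullback.snd f (Spec.map (CommRingCat.ofHom i) ≫ g0)).fiber
        (genericPoint (Spec (CommRingCat.of B)))) := by
  let jB := algebraMap B (FractionRing B)
  have hη : Spec.map (CommRingCat.ofHom jB) (spt _) = genericPoint (Spec (CommRingCat.of B)) :=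
    specMap_subtype_closedPoint jB (IsFractionRing.injective B _)
  have hinj : Function.Injective (jB.comp i) := (IsFractionRing.injective B _).comp hi
  let θ : K' →+* FractionRing B := IsFractionRing.lift (A := V) (g := jB.comp i) hinj
  have hθ : Spec.map (CommRingCat.ofHom jB) ≫ Spec.map (CommRingCat.ofHom i) ≫ g0 =
      Spec.map (CommRingCat.ofHom θ) ≫ gK' := by
    rw [← hg, ← Spec.map_comp_assoc, ← Spec.map_comp_assoc, ← CommRingCat.ofHom_comp, ← CommRingCat.ofHom_comp]
    refine congrArg (fun e => Spec.map (CommRingCat.ofHom e) ≫ g0) (RingHom.ext fun v => ?_)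
    show jB (i v) = θ (algebraMap V K' v)
    exact ((IsFractionRing.lift_algebraMap (A := V) (K := K') (L := FractionRing B) (g := jB.comp i) hinj v) : θ (algebraMap V K' v) = jB (i v)).symm
  constructor
  · rw [← hη, ← Scheme.Hom.comp_apply, hθ, apply_specMap]
  · obtain ⟨j, hj, hje⟩ := exists_residueField_hom jB (fun z => by
      obtain ⟨a, b, -, h⟩ := IsFractionRing.div_surjective (A := B) z
      exact ⟨a, b, h.symm⟩) hη
    refine nGeomConnComp_eq_card_fiber f _ _ j hj ?_
    rw [← Category.assoc, hje, hθ]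
    exact allRational_extend f θ gK' hK'

theorem exists_dvr_realizing {X Y : Scheme.{u}} [IsLocallyNoetherian Y] (f : X ⟶ Y) [LocallyQuasiFinite f]
    [LocallyOfFiniteType f] [QuasiCompact f] (y y' : Y) (hne : y' ≠ y) (hgen : y' ⤳ y) :
    ∃ (A : Type u) (_ : CommRing A) (_ : IsDomain A) (_ : IsDiscreteValuationRing A) (g : Spec (CommRingCat.of A) ⟶ Y),
      g.base (IsLocalRing.closedPoint A) = y ∧ g.base (genericPoint (Spec (CommRingCat.of A))) = y' ∧
      MoreMor.nGeomConnComp f y = ENat.card ↥((pullback.snd f g).fiber (IsLocalRing.closedPoint A)) ∧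
      MoreMor.nGeomConnComp f y' = ENat.card ↥((pullback.snd f g).fiber (genericPoint (Spec (CommRingCat.of A)))) := by
  -- the generic side
  let k0 : Type u := Y.residueField y'
  let F := AlgebraicClosure k0
  let τ' : Spec (CommRingCat.of F) ⟶ Y :=
    Spec.map (CommRingCat.ofHom (algebraMap k0 F)) ≫ Y.fromSpecResidueField y'
  obtain ⟨S', -, hS'⟩ := exists_finset_allRational f τ'
  let K' := IntermediateField.adjoin k0 (↑S' : Set F)
  haveI : FiniteDimensional k0 K' :=
    IntermediateField.finiteDimensional_adjoin fun s _ => Algebra.IsIntegral.isIntegral s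
  let gK' : Spec (CommRingCat.of K') ⟶ Y :=
    Spec.map (CommRingCat.ofHom (algebraMap k0 K')) ≫ Y.fromSpecResidueField y'
  have hK' : AllRational f gK' := by
    refine hS' K' K'.val.toRingHom gK' ?_ fun s hs => ⟨⟨s, IntermediateField.subset_adjoin _ _ hs⟩, rfl⟩
    rw [← Spec.map_comp_assoc]
    rfl
  have hsp : (𝟙 Y : Y ⟶ Y) y' ⤳ y := hgen
  let φ0 : Y.presheaf.stalk y ⟶ CommRingCat.of K' :=
    Proj16.specMapResidue (p := 𝟙 Y) hsp ≫ CommRingCat.ofHom (algebraMap k0 K')
  letI : Algebra (Y.presheaf.stalk y) K' := φ0.hom.toAlgebra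
  haveI : Algebra.EssFiniteType (Y.presheaf.stalk y) K' := by
    refine RingHom.essFiniteType_algebraMap.mp ?_
    exact RingHom.EssFiniteType.comp (Proj16.essFiniteType_specMapResidue hsp)
      (RingHom.FiniteType.essFiniteType (RingHom.Finite.finiteType (RingHom.finite_algebraMap.2 inferInstance)))
  obtain ⟨a, ha, ha0⟩ := Proj16.exists_maximalIdeal_ne_zero (p := 𝟙 Y) hsp (fun h => hne h.symm)
  obtain ⟨V, hV, hVmem, hVloc⟩ := Proj16.exists_dvr_dominating (Y.presheaf.stalk y) K'
    ⟨a, ha, fun h => ha0 (RingHom.injective (algebraMap k0 K') (h.trans (map_zero _).symm))⟩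
  haveI := hV
  let g0 := Proj16.valMap V φ0 hVmem
  have hg0c : g0 (spt V) = y := Proj16.valMap_closedPoint V φ0 hVmem fun t ht => by
    rw [show φ0.hom t = ((⟨_, hVmem t⟩ : V) : K') from rfl, ValuationSubring.coe_mem_nonunits_iff]
    exact fun hu => ht (hVloc.map_nonunit t hu)
  have hg0g : Spec.map (CommRingCat.ofHom V.subtype) ≫ g0 = gK' := by
    refine (Proj16.valMap_generic V φ0 hVmem).trans ?_
    rw [show Spec.map φ0 = Spec.map (CommRingCat.ofHom (algebraMap k0 K')) ≫
      Spec.map (Proj16.specMapResidue (p := 𝟙 Y) hsp) from Spec.map_comp _ _, Category.assoc,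
      Proj16.specMapResidue_fromSpecStalk, Category.comp_id]
  -- the closed side
  let Ω := AlgebraicClosure (ResidueField V)
  let ψ : V →+* Ω := (algebraMap (ResidueField V) Ω).comp (residue V)
  have hψ : RingHom.ker ψ = maximalIdeal V := by
    rw [RingHom.ker_comp_of_injective _ (RingHom.injective _), IsLocalRing.ker_residue]
  let τ0 : Spec (CommRingCat.of Ω) ⟶ Y := Spec.map (CommRingCat.ofHom ψ) ≫ g0
  obtain ⟨S, hSint, hS⟩ := exists_finset_allRational f τ0
  have hSint' : ∀ s ∈ S, ψ.IsIntegralElem s := by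
    intro s hs
    obtain ⟨p, hp, hps⟩ := (Algebra.IsIntegral.isIntegral (R := ResidueField V) s)
    obtain ⟨q, hq, -, hqm⟩ := Polynomial.lifts_and_natDegree_eq_and_monic (f := residue V) (p := p)
      (Polynomial.map_surjective _ residue_surjective _) hp
    exact ⟨q, hqm, by rw [← hq, Polynomial.eval₂_map] at hps; exact hps⟩
  obtain ⟨B, _, _, _, i, χ, hi, hχ, hker, hsub⟩ := exists_dvr_residue ψ hψ S hSint'
  let g : Spec (CommRingCat.of B) ⟶ Y := Spec.map (CommRingCat.ofHom i) ≫ g0
  have hτ0 : Spec.map (CommRingCat.ofHom χ) ≫ g = τ0 := by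
    rw [← Spec.map_comp_assoc, ← CommRingCat.ofHom_comp, hχ]
  have hgc : g (spt B) = y := by
    have hc : Spec.map (CommRingCat.ofHom χ) (spt Ω) = spt B := by
      refine PrimeSpectrum.ext ?_
      show Ideal.comap χ (maximalIdeal Ω) = maximalIdeal B
      rw [maximalIdeal_eq_bot, ← RingHom.ker_eq_comap_bot, hker]
    have hc0 : Spec.map (CommRingCat.ofHom ψ) (spt Ω) = spt V := by
      refine PrimeSpectrum.ext ?_
      show Ideal.comap ψ (maximalIdeal Ω) = maximalIdeal V
      rw [maximalIdeal_eq_bot, ← RingHom.ker_eq_comap_bot, hψ]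
    exact ((congrArg g hc).symm.trans (Scheme.Hom.comp_apply _ _ _).symm).trans
      ((congrArg (fun m : Spec (CommRingCat.of Ω) ⟶ Y => m (spt Ω)) hτ0).trans
        ((Scheme.Hom.comp_apply _ _ _).trans ((congrArg g0 hc0).trans hg0c)))
  obtain ⟨hgη, hcardη⟩ := card_fiber_generic f i hi g0 gK' hg0g hK'
  have hgη' : g (genericPoint (Spec (CommRingCat.of B))) = y' :=
    hgη.trans ((Scheme.Hom.comp_apply _ _ _).trans (Scheme.fromSpecResidueField_apply _ _))
  refine ⟨B, inferInstance, inferInstance, inferInstance, g, hgc, hgη', ?_, ?_⟩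
  · refine (congrArg (MoreMor.nGeomConnComp f) hgc).symm.trans
      (card_fiber_closed f g χ hker S hsub fun K _ j gK h => hS K j gK (h.trans hτ0))
  · exact (congrArg (MoreMor.nGeomConnComp f) hgη').symm.trans hcardη

end Groth.Agent.H1Near
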