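import Groth.Agent.H1Near.Stein
import Groth.Agent.H1Near.Disjoint

/-!
# Stein factorisation over a geometrically unibranch point
-/

universe u

open CategoryTheory CategoryTheory.Limits AlgebraicGeometry TopologicalSpace Topology

noncomputable section

namespace Groth.Agent.H1Near

variable {X Y : Scheme.{u}}

theorem isUnivOpenAt_integral [IsLocallyNoetherian Y] {W : Scheme.{u}} [IsIntegral W] (g : W ⟶ Y)
    [LocallyOfFiniteType g] [LocallyQuasiFinite g]
    (hmax : ∀ t, t ⤳ g (genericPoint W) → t = g (genericPoint W)) (w : W)
    (hy : CAlg2.IsGeomUnibranch (Y.presheaf.stalk (g w))) : EGA43.IsUnivOpenAt g w := by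
  refine UnivOpen.isUnivOpenAt_of_quasiFinite g w (g.quasiFiniteAt w) hy ?_
  let r : ↥(Spec (W.presheaf.stalk w)) := ⟨⊥, Ideal.isPrime_bot⟩
  have hr : W.fromSpecStalk w r = genericPoint W := by
    obtain ⟨q, hq⟩ : genericPoint W ∈ Set.range (W.fromSpecStalk w) := by
      rw [Scheme.range_fromSpecStalk]; exact genericPoint_specializes w
    have h1 : r ⤳ q := (PrimeSpectrum.le_iff_specializes r q).1 bot_le
    have h2 := h1.map (W.fromSpecStalk w).continuous
    rw [hq] at h2
    exact (h2.antisymm (genericPoint_specializes _)).eq
  let p : ↥(Spec (Y.presheaf.stalk (g w))) := Spec.map (g.stalkMap w) r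
  have hp : Y.fromSpecStalk (g w) p = g (genericPoint W) := by
    rw [← hr, ← Scheme.Hom.comp_apply, ← Scheme.Hom.comp_apply, Scheme.SpecMap_stalkMap_fromSpecStalk]
  have h := asIdeal_eq_nilradical hy p (hp ▸ hmax)
  intro a ha
  rw [← h]
  show (g.stalkMap w).hom a ∈ (⊥ : Ideal (W.presheaf.stalk w))
  exact (Submodule.mem_bot _).2 (RingHom.mem_ker.1 ha)

theorem univOpenAt_fromNormalization_of_unibranch [IsLocallyNoetherian Y] [IrreducibleSpace Y] (f : X ⟶ Y)
    [IsProper f] (hdom : ∀ Z ∈ irreducibleComponents (X : Type u), closure (f.base '' Z) = Set.univ)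
    (z : f.normalization) (hy : CAlg2.IsGeomUnibranch (Y.presheaf.stalk (f.fromNormalization z))) :
    EGA43.IsUnivOpenAt f.fromNormalization z := by
  obtain ⟨_, _⟩ := geometricallyConnected_toNormalization f
  haveI : IsFinite f.fromNormalization := S1297.result f
  let W' := irreducibleComponent z
  let η := (isIrreducible_irreducibleComponent (x := z)).genericPoint
  have hη : closure {η} = W' := (isIrreducible_irreducibleComponent (x := z)).closure_genericPoint
    isClosed_irreducibleComponent
  let W := (Scheme.IdealSheafData.vanishingIdeal (Closeds.closure {η})).subscheme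
  let ι : W ⟶ f.normalization := (Scheme.IdealSheafData.vanishingIdeal (Closeds.closure {η})).subschemeι
  haveI : IsIntegral W := QCoh.isIntegral_closure_point η
  haveI : IsClosedImmersion ι := inferInstanceAs (IsClosedImmersion (Scheme.IdealSheafData.subschemeι _))
  have hrange : Set.range ι = closure {η} := H23.RedSub.range_vanishingIdeal _
  have hgen : ι (genericPoint W) = η := by
    have h1 := (genericPoint_spec W).image ι.continuous
    rw [Set.image_univ, hrange, closure_closure] at h1
    exact h1.eq isGenericPoint_closure
  obtain ⟨w, hw⟩ : z ∈ Set.range ι := by rw [hrange, hη]; exact mem_irreducibleComponent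
  suffices h : EGA43.IsUnivOpenAt f.fromNormalization (ι w) by rwa [hw] at h
  refine QHomeo.univOpenAt_of_comp (f := ι) ?_
  refine isUnivOpenAt_integral (ι ≫ f.fromNormalization) ?_ w (by rwa [Scheme.Hom.comp_apply, hw])
  rw [Scheme.Hom.comp_apply, hgen]
  have key : f.fromNormalization η = genericPoint Y := by
    obtain ⟨x, hx⟩ := f.toNormalization.surjective η
    let Z := irreducibleComponent x
    let ξ := (isIrreducible_irreducibleComponent (x := x)).genericPoint
    have hξ : closure {ξ} = Z := (isIrreducible_irreducibleComponent (x := x)).closure_genericPoint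
      isClosed_irreducibleComponent
    have hξx : ξ ⤳ x := specializes_iff_mem_closure.2 (hξ ▸ mem_irreducibleComponent)
    have h1 : f.toNormalization ξ ⤳ η := hx ▸ hξx.map f.toNormalization.continuous
    have hW := irreducibleComponent_mem_irreducibleComponents z
    change W' ∈ irreducibleComponents _ at hW
    rw [← hη] at hW
    have h2 : f.toNormalization ξ = η :=
      (h1.antisymm (specializes_iff_mem_closure.2 (hW.2 isIrreducible_singleton.closure h1.closure_subset
        (subset_closure rfl)))).eq
    have h3 : closure {f ξ} = Set.univ := by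
      rw [← hdom Z (irreducibleComponent_mem_irreducibleComponents x), ← hξ, ← Set.image_singleton,
        closure_image_closure f.continuous]
    rw [← h2, ← Scheme.Hom.comp_apply, f.toNormalization_fromNormalization]
    exact IsGenericPoint.eq (S := Set.univ) h3 (genericPoint_spec Y)
  intro t ht
  rw [key] at ht ⊢
  exact (ht.antisymm ((genericPoint_spec Y).specializes trivial)).eq

theorem lsc_of_unibranch [IsLocallyNoetherian Y] [IrreducibleSpace Y] (f : X ⟶ Y) [IsProper f]
    (hdom : ∀ Z ∈ irreducibleComponents (X : Type u), closure (f.base '' Z) = Set.univ) (y : Y)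
    (hy : CAlg2.IsGeomUnibranch (Y.presheaf.stalk y)) :
    {z | MoreMor.nGeomConnComp f y ≤ MoreMor.nGeomConnComp f z} ∈ nhds y := by
  haveI : IsFinite f.fromNormalization := S1297.result f
  obtain ⟨n, hn⟩ := ENat.ne_top_iff_exists.1 (nGeomConnComp_lt_top f.fromNormalization y).ne
  simp only [nGeomConnComp_fromNormalization f, ← hn]
  exact le_nGeomConnComp_mem_nhds n f.fromNormalization y
    (fun z hz => univOpenAt_fromNormalization_of_unibranch f hdom z (by rwa [hz])) hn.le

end Groth.Agent.H1Near
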